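/-
Sylow 2-subgroups of symmetric groups and of alternating groups of degree at least six are their own normalisers.
-/
import Mathlib

set_option autoImplicit false

namespace Cfsg.Agent.SymSylow

open Equiv

variable {α : Type*} [DecidableEq α]

/-- The transpositions of a subgroup. -/
def swaps (T : Subgroup (Perm α)) : Set (Perm α) := {τ | τ.IsSwap ∧ τ ∈ T}

theorem swap_of_moved {τ : Perm α} (hτ : τ.IsSwap) {x : α} (hx : τ x ≠ x) : τ = swap x (τ x) := by
  obtain ⟨a, b, -, rfl⟩ := hτ
  rcases eq_or_ne x a with rfl | ha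
  · rw [swap_apply_left]
  · rcases eq_or_ne x b with rfl | hb
    · rw [swap_apply_right, swap_comm]
    · exact absurd (swap_apply_of_ne_of_ne ha hb) hx

theorem isSwap_conj {τ : Perm α} (hτ : τ.IsSwap) (g : Perm α) : (g * τ * g⁻¹).IsSwap := by
  obtain ⟨a, b, hab, rfl⟩ := hτ
  exact ⟨g a, g b, g.injective.ne hab, (Equiv.swap_apply_apply g a b).symm⟩

variable [Fintype α]

theorem partner_unique {T : Subgroup (Perm α)} (hT : IsPGroup 2 T) {a b c : α} (hab : a ≠ b) (hac : a ≠ c)
    (hb : swap a b ∈ T) (hc : swap a c ∈ T) : b = c := by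
  by_contra hbc
  have h3 := (Perm.isThreeCycle_swap_mul_swap_same hab hac hbc).orderOf
  obtain ⟨k, hk⟩ := (IsPGroup.iff_orderOf.1 hT) ⟨_, mul_mem hb hc⟩
  rw [Subgroup.orderOf_mk, h3] at hk
  rcases k with _ | k
  · omega
  · rw [pow_succ] at hk; omega

theorem swaps_common {T : Subgroup (Perm α)} (hT : IsPGroup 2 T) {τ τ' : Perm α} (h1 : τ ∈ swaps T)
    (h2 : τ' ∈ swaps T) {x : α} (hx : τ x ≠ x) (hx' : τ' x ≠ x) : τ = τ' := by
  have e1 := swap_of_moved h1.1 hx
  have e2 := swap_of_moved h2.1 hx'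
  rw [e1, e2, partner_unique hT (Ne.symm hx) (Ne.symm hx') (e1 ▸ h1.2) (e2 ▸ h2.2)]

/-- Conjugation on the transpositions. -/
def phi (T : Subgroup (Perm α)) : Subgroup.normalizer (swaps T) →* Perm (swaps T) where
  toFun g := Equiv.subtypeEquiv (MulAut.conj g.1).toEquiv fun a => Subgroup.mem_set_normalizer_iff.1 g.2 a
  map_one' := by ext a x; simp
  map_mul' g h := by ext a x; simp [mul_assoc]

theorem phi_apply (T : Subgroup (Perm α)) (g : Subgroup.normalizer (swaps T)) (τ : swaps T) :
    ((phi T g τ : swaps T) : Perm α) = g.1 * τ.1 * g.1⁻¹ := rfl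

theorem le_normalizer_swaps (T : Subgroup (Perm α)) :
    Subgroup.normalizer (T : Set (Perm α)) ≤ Subgroup.normalizer (swaps T) := by
  intro g hg
  rw [Subgroup.mem_normalizer_iff] at hg
  rw [Subgroup.mem_set_normalizer_iff]
  refine fun τ => ⟨fun h => ⟨isSwap_conj h.1 g, (hg τ).1 h.2⟩, fun h => ⟨?_, (hg τ).2 h.2⟩⟩
  have := isSwap_conj h.1 g⁻¹
  simpa [mul_assoc] using this

theorem self_le_normalizer_swaps (T : Subgroup (Perm α)) : T ≤ Subgroup.normalizer (swaps T) :=
  Subgroup.le_normalizer.trans (le_normalizer_swaps T)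

section Points

variable (T : Subgroup (Perm α))

/-- A moved point of a transposition. -/
noncomputable def rep (τ : swaps T) : α := τ.2.1.choose

theorem rep_moved (τ : swaps T) : τ.1 (rep T τ) ≠ rep T τ := by
  obtain ⟨b, hb, e⟩ := τ.2.1.choose_spec
  intro h
  exact hb ((swap_apply_left _ b).symm.trans ((congrArg (fun p : Perm α => p τ.2.1.choose) e).symm.trans h)).symm

/-- The points paired by the transpositions. -/
noncomputable def pts : swaps T × Bool → α := fun p => if p.2 then rep T p.1 else p.1.1 (rep T p.1)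

theorem moved_pts (p : swaps T × Bool) : p.1.1 (pts T p) ≠ pts T p := by
  obtain ⟨τ, b⟩ := p
  have := rep_moved T τ
  cases b
  · simp only [pts, Bool.false_eq_true, if_false]
    exact fun e => this (τ.1.injective e)
  · exact this

theorem pts_injective (hT : IsPGroup 2 T) : Function.Injective (pts T) := by
  rintro ⟨τ, b⟩ ⟨τ', b'⟩ e
  have h1 := moved_pts T (τ, b)
  have h2 := moved_pts T (τ', b')
  rw [← e] at h2
  have hττ : τ = τ' := Subtype.ext (swaps_common hT τ.2 τ'.2 h1 h2)
  subst hττ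
  have := rep_moved T τ
  cases b <;> cases b' <;> simp [pts] at e ⊢
  · exact this e
  · exact this e.symm

theorem moved_iff (hT : IsPGroup 2 T) (τ : swaps T) {x : α} :
    τ.1 x ≠ x ↔ ∃ b, pts T (τ, b) = x := by
  refine ⟨fun hx => ?_, fun ⟨b, e⟩ => e ▸ moved_pts T (τ, b)⟩
  have e := swap_of_moved τ.2.1 (rep_moved T τ)
  by_contra hne
  push_neg at hne
  refine hx ?_
  rw [e]
  refine swap_apply_of_ne_of_ne (fun h => hne true ?_) (fun h => hne false ?_) <;> simp [pts, h]

end Points

theorem card_swaps_ge (T : Sylow 2 (Perm α)) :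
    Fintype.card α / 2 ≤ Nat.card (swaps (T : Subgroup (Perm α))) := by
  classical
  set m := Fintype.card α / 2
  let e : Fin (Fintype.card α) ≃ α := (Fintype.equivFin α).symm
  let f : Fin m → Perm α := fun i =>
    swap (e ⟨2 * i.val, by omega⟩) (e ⟨2 * i.val + 1, by omega⟩)
  have hfne : ∀ i : Fin m, e ⟨2 * i.val, by omega⟩ ≠ e ⟨2 * i.val + 1, by omega⟩ := fun i =>
    e.injective.ne (by simp [Fin.ext_iff])
  have hfinj : Function.Injective f := by
    intro i j hij
    have := congrArg (fun p : Perm α => p (e ⟨2 * i.val, by omega⟩)) hij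
    simp only [f, swap_apply_left] at this
    by_contra hne
    rw [swap_apply_of_ne_of_ne (e.injective.ne (by simp [Fin.ext_iff]; omega))
      (e.injective.ne (by simp [Fin.ext_iff]; omega))] at this
    exact absurd (e.injective this) (by simp [Fin.ext_iff])
  have hcomm : ∀ i j, f i * f j = f j * f i := by
    intro i j
    rcases eq_or_ne i j with rfl | hne
    · rfl
    refine Perm.Disjoint.commute ?_
    intro x
    by_cases h1 : x = e ⟨2 * i.val, by omega⟩
    · right; subst h1
      exact swap_apply_of_ne_of_ne (e.injective.ne (by simp [Fin.ext_iff]; omega))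
        (e.injective.ne (by simp [Fin.ext_iff]; omega))
    by_cases h2 : x = e ⟨2 * i.val + 1, by omega⟩
    · right; subst h2
      exact swap_apply_of_ne_of_ne (e.injective.ne (by simp [Fin.ext_iff]; omega))
        (e.injective.ne (by simp [Fin.ext_iff]; omega))
    exact Or.inl (swap_apply_of_ne_of_ne h1 h2)
  set E := Subgroup.closure (Set.range f)
  have hEc : ∀ x ∈ E, ∀ y ∈ E, x * y = y * x := by
    have : IsMulCommutative E := Subgroup.isMulCommutative_closure (by
      rintro _ ⟨i, rfl⟩ _ ⟨j, rfl⟩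
      exact hcomm i j)
    intro x hx y hy
    exact congrArg Subtype.val (this.is_comm.comm ⟨x, hx⟩ ⟨y, hy⟩)
  have hsq : ∀ x ∈ E, x * x = 1 := by
    intro x hx
    induction hx using Subgroup.closure_induction with
    | mem y hy => obtain ⟨i, rfl⟩ := hy; exact swap_mul_self _ _
    | one => simp
    | mul y z hy' hz' hy hz =>
      rw [show y * z * (y * z) = y * (z * y) * z by group, hEc z hz' y hy',
        show y * (y * z) * z = y * y * (z * z) by group, hy, hz, one_mul]
    | inv y _ hy => rw [← mul_inv_rev, hy, inv_one]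
  have hEp : IsPGroup 2 E := fun x => ⟨1, Subtype.ext (by
    simp only [pow_one, Subgroup.coe_pow, pow_two, OneMemClass.coe_one]; exact hsq _ x.2)⟩
  obtain ⟨T0, hT0⟩ := hEp.exists_le_sylow
  obtain ⟨g, hg⟩ := MulAction.exists_smul_eq (Perm α) T0 T
  let F : Fin m → swaps (T : Subgroup (Perm α)) := fun i => ⟨g * f i * g⁻¹,
    isSwap_conj ⟨_, _, hfne i, rfl⟩ g, by
      rw [← hg, Sylow.coe_subgroup_smul]
      exact ⟨f i, hT0 (Subgroup.subset_closure ⟨i, rfl⟩), rfl⟩⟩
  have hF : Function.Injective F := fun i j hij => hfinj (by simpa [F, Subtype.ext_iff] using hij)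
  simpa using Nat.card_le_card_of_injective F hF

theorem unpaired_unique (T : Sylow 2 (Perm α)) {x y : α}
    (hx : ∀ τ ∈ swaps (T : Subgroup (Perm α)), τ x = x)
    (hy : ∀ τ ∈ swaps (T : Subgroup (Perm α)), τ y = y) : x = y := by
  classical
  by_contra hne
  have h1 := card_swaps_ge T
  have hinj := pts_injective (T : Subgroup (Perm α)) T.2
  have h2 : (Finset.univ.image (pts (T : Subgroup (Perm α)))).card =
      2 * Nat.card (swaps (T : Subgroup (Perm α))) := by
    rw [Finset.card_image_of_injective _ hinj, Finset.card_univ, Fintype.card_prod, Fintype.card_bool,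
      Nat.card_eq_fintype_card, mul_comm]
  have hsub : Finset.univ.image (pts (T : Subgroup (Perm α))) ⊆ (Finset.univ.erase x).erase y := by
    intro z hz
    obtain ⟨p, -, rfl⟩ := Finset.mem_image.1 hz
    have := moved_pts (T : Subgroup (Perm α)) p
    refine Finset.mem_erase.2 ⟨fun e => this ?_, Finset.mem_erase.2 ⟨fun e => this ?_, Finset.mem_univ _⟩⟩
    · rw [e]; exact hy _ p.1.2
    · rw [e]; exact hx _ p.1.2
  have h3 := Finset.card_le_card hsub
  rw [h2, Finset.card_erase_of_mem (Finset.mem_erase.2 ⟨Ne.symm hne, Finset.mem_univ y⟩),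
    Finset.card_erase_of_mem (Finset.mem_univ x), Finset.card_univ] at h3
  have h4 : 2 ≤ Fintype.card α := by
    have := Finset.card_le_card (Finset.subset_univ ({x, y} : Finset α))
    rwa [Finset.card_pair hne, Finset.card_univ] at this
  omega

theorem ker_phi (T : Sylow 2 (Perm α)) {g : Subgroup.normalizer (swaps (T : Subgroup (Perm α)))}
    (hg : phi (T : Subgroup (Perm α)) g = 1) : g.1 * g.1 = 1 := by
  have hc : ∀ τ ∈ swaps (T : Subgroup (Perm α)), ∀ x, g.1 (τ x) = τ (g.1 x) := by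
    intro τ hτ x
    have := congrArg Subtype.val (DFunLike.congr_fun hg ⟨τ, hτ⟩)
    rw [phi_apply, Perm.one_apply, mul_inv_eq_iff_eq_mul] at this
    exact DFunLike.congr_fun this x
  ext x
  simp only [Perm.mul_apply, Perm.one_apply]
  by_cases hx : ∀ τ ∈ swaps (T : Subgroup (Perm α)), τ x = x
  · have : g.1 x = x := unpaired_unique T (fun τ hτ => by rw [← hc τ hτ, hx τ hτ]) hx
    rw [this, this]
  · push_neg at hx
    obtain ⟨τ, hτ, hτx⟩ := hx
    have hmov : τ (g.1 x) ≠ g.1 x := by rw [← hc τ hτ]; exact g.1.injective.ne hτx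
    have e := swap_of_moved hτ.1 hτx
    rw [e] at hmov
    have h2 : g.1 x = x ∨ g.1 x = τ x := by
      by_contra hh
      push_neg at hh
      exact hmov (swap_apply_of_ne_of_ne hh.1 hh.2)
    rcases h2 with h2 | h2
    · rw [h2, h2]
    · calc g.1 (g.1 x) = g.1 (τ x) := by rw [h2]
        _ = τ (g.1 x) := hc τ hτ x
        _ = τ (τ x) := by rw [h2]
        _ = x := by rw [e, swap_apply_left, swap_apply_right]

theorem phi_surjective (T : Sylow 2 (Perm α)) : Function.Surjective (phi (T : Subgroup (Perm α))) := by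
  classical
  set S := (T : Subgroup (Perm α))
  intro σ
  let f : swaps S × Bool ≃ {x // x ∈ Set.range (pts S)} := Equiv.ofInjective _ (pts_injective S T.2)
  let g : Perm α := Perm.extendDomain (Equiv.prodCongr σ (Equiv.refl Bool)) f
  have hgp : ∀ p, g (pts S p) = pts S (σ p.1, p.2) := fun p =>
    Perm.extendDomain_apply_image (Equiv.prodCongr σ (Equiv.refl Bool)) f p
  have hconj : ∀ τ : swaps S, g * τ.1 * g⁻¹ = (σ τ).1 := by
    intro τ
    have e1 : τ.1 = swap (pts S (τ, true)) (pts S (τ, false)) := by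
      simpa [pts] using swap_of_moved τ.2.1 (rep_moved S τ)
    have e2 : (σ τ).1 = swap (pts S (σ τ, true)) (pts S (σ τ, false)) := by
      simpa [pts] using swap_of_moved (σ τ).2.1 (rep_moved S (σ τ))
    rw [e1, ← Equiv.swap_apply_apply, hgp, hgp, e2]
  have hg : g ∈ Subgroup.normalizer (swaps S) := by
    rw [Subgroup.mem_set_normalizer_iff]
    intro τ
    constructor
    · intro h
      rw [hconj ⟨τ, h⟩]
      exact (σ ⟨τ, h⟩).2
    · intro h
      have := hconj (σ.symm ⟨_, h⟩)
      rw [Equiv.apply_symm_apply, mul_left_inj, mul_right_inj] at this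
      rw [← this]
      exact (σ.symm ⟨_, h⟩).2
  exact ⟨⟨g, hg⟩, Equiv.ext fun τ => Subtype.ext (hconj τ)⟩

theorem phi_image_sylow (T : Sylow 2 (Perm α)) : ∃ Q : Sylow 2 (Perm (swaps (T : Subgroup (Perm α)))),
    (Q : Subgroup (Perm (swaps (T : Subgroup (Perm α))))) =
      ((T : Subgroup (Perm α)).subgroupOf (Subgroup.normalizer (swaps (T : Subgroup (Perm α))))).map
        (phi (T : Subgroup (Perm α))) := by
  set S := (T : Subgroup (Perm α))
  set N := Subgroup.normalizer (swaps S)
  have hp : IsPGroup 2 (S.subgroupOf N) :=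
    T.2.of_equiv (Subgroup.subgroupOfEquivOfLe (self_le_normalizer_swaps S)).symm
  obtain ⟨Q, hQ⟩ := (hp.map (phi S)).exists_le_sylow
  refine ⟨Q, le_antisymm (fun x hx => ?_) hQ⟩
  obtain ⟨g, rfl⟩ := phi_surjective T x
  refine ⟨g, ?_, rfl⟩
  have hker : IsPGroup 2 (phi S).ker := fun k => ⟨1, Subtype.ext (Subtype.ext (by
    simpa [pow_two] using ker_phi T (MonoidHom.mem_ker.1 k.2)))⟩
  have h1 : IsPGroup 2 ((Q : Subgroup _).comap (phi S)) := Q.2.comap_of_ker_isPGroup _ hker
  have h2 : ((Q : Subgroup _).comap (phi S)).map N.subtype = S := by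
    refine T.3 (h1.map _) fun t ht => ?_
    exact ⟨⟨t, self_le_normalizer_swaps S ht⟩, hQ ⟨_, ht, rfl⟩, rfl⟩
  exact Subgroup.mem_subgroupOf.2 (h2.le ⟨g, hx, rfl⟩)

theorem mem_of_sq {G : Type*} [Group G] (P : Sylow 2 G) {y : G}
    (hy : y ∈ Subgroup.normalizer ((P : Subgroup G) : Set G)) (h2 : y * y = 1) : y ∈ P := by
  have hz : IsPGroup 2 (Subgroup.zpowers y) := fun z => by
    obtain ⟨k, hk⟩ := Subgroup.mem_zpowers_iff.1 z.2
    refine ⟨1, Subtype.ext ?_⟩
    rw [Subgroup.coe_pow, pow_one, ← hk, ← zpow_natCast, ← zpow_mul, mul_comm, zpow_mul, zpow_natCast, pow_two,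
      h2, one_zpow, OneMemClass.coe_one]
  have : y ∈ Subgroup.zpowers y ⊓ Subgroup.normalizer ((P : Subgroup G) : Set G) :=
    ⟨Subgroup.mem_zpowers y, hy⟩
  exact ((hz.inf_normalizer_sylow P).le this).2

theorem normalizer_sylow_aux : ∀ (n : ℕ) (α : Type _) [DecidableEq α] [Fintype α], Fintype.card α = n →
    ∀ T : Sylow 2 (Perm α), Subgroup.normalizer ((T : Subgroup (Perm α)) : Set (Perm α)) ≤ T := by
  intro n
  induction n using Nat.strong_induction_on with
  | _ n ih =>
    intro α _ _ hn T g hg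
    classical
    rcases Nat.eq_zero_or_pos n with h0 | h0
    · haveI : IsEmpty α := Fintype.card_eq_zero_iff.1 (hn.trans h0)
      rw [Subsingleton.elim g 1]; exact one_mem _
    set S := (T : Subgroup (Perm α))
    have hgN := le_normalizer_swaps S hg
    obtain ⟨Q, hQ⟩ := phi_image_sylow T
    have hcard : Fintype.card (swaps S) < n := by
      have := Fintype.card_le_of_injective _ (pts_injective S T.2)
      rw [Fintype.card_prod, Fintype.card_bool] at this
      omega
    have hnorm : phi S ⟨g, hgN⟩ ∈ Subgroup.normalizer ((Q : Subgroup (Perm (swaps S))) : Set (Perm (swaps S))) := by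
      have key : ∀ y (hy : y ∈ Subgroup.normalizer (S : Set (Perm α))) (a : Perm (swaps S)), a ∈ Q →
          phi S ⟨y, le_normalizer_swaps S hy⟩ * a * (phi S ⟨y, le_normalizer_swaps S hy⟩)⁻¹ ∈ (Q : Subgroup _) := by
        intro y hy a ha
        obtain ⟨t, ht, rfl⟩ := hQ.le ha
        rw [hQ, ← map_inv, ← map_mul, ← map_mul]
        exact ⟨_, Subgroup.mem_subgroupOf.2 ((Subgroup.mem_normalizer_iff.1 hy t.1).1 ht), rfl⟩
      rw [Subgroup.mem_normalizer_iff]
      refine fun a => ⟨key g hg a, fun ha => ?_⟩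
      have := key g⁻¹ (inv_mem hg) _ ha
      rw [show (⟨g⁻¹, le_normalizer_swaps S (inv_mem hg)⟩ : Subgroup.normalizer (swaps S)) = ⟨g, hgN⟩⁻¹ from rfl,
        map_inv] at this
      simpa [mul_assoc] using this
    have hin := ih _ hcard (swaps S) rfl Q hnorm
    rw [hQ] at hin
    obtain ⟨t, ht, et⟩ := hin
    have hy : (t⁻¹ * ⟨g, hgN⟩ : Subgroup.normalizer (swaps S)).1 ∈ T := by
      refine mem_of_sq T ?_ (ker_phi T (by rw [map_mul, map_inv, et, inv_mul_cancel]))
      exact mul_mem (inv_mem (Subgroup.le_normalizer ht)) hg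
    have := mul_mem (Subgroup.mem_subgroupOf.1 ht) hy
    simpa using this

/-- Sylow 2-subgroups of symmetric groups are self-normalising. -/
theorem normalizer_sylow (T : Sylow 2 (Perm α)) :
    Subgroup.normalizer ((T : Subgroup (Perm α)) : Set (Perm α)) ≤ T :=
  normalizer_sylow_aux _ α rfl T

/-- Sylow 2-subgroups of alternating groups of degree at least six are self-normalising. -/
theorem normalizer_sylow_alt (hn : 6 ≤ Fintype.card α) (P : Sylow 2 (alternatingGroup α)) :
    Subgroup.normalizer ((P : Subgroup (alternatingGroup α)) : Set (alternatingGroup α)) ≤ P := by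
  classical
  intro g hg
  set S₁ := (P : Subgroup (alternatingGroup α)).map (alternatingGroup α).subtype with hS₁
  obtain ⟨T, hT⟩ := (P.2.map (alternatingGroup α).subtype).exists_le_sylow
  set S := (T : Subgroup (Perm α))
  have hTA : ∀ t ∈ S, Perm.sign t = 1 → t ∈ S₁ := by
    intro t ht hs
    have h1 : (S.subgroupOf (alternatingGroup α)) = P := by
      refine P.3 (T.2.comap_of_injective _ Subtype.val_injective) fun x hx => ?_
      exact hT ⟨x, hx, rfl⟩
    exact ⟨⟨t, Perm.mem_alternatingGroup.2 hs⟩, h1.le (Subgroup.mem_subgroupOf.2 ht), rfl⟩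
  have hnormS : ∀ y ∈ Subgroup.normalizer ((P : Subgroup (alternatingGroup α)) : Set (alternatingGroup α)),
      ∀ s ∈ S₁, (y : Perm α) * s * (y : Perm α)⁻¹ ∈ S₁ := by
    rintro y hy s ⟨x, hx, rfl⟩
    exact ⟨y * x * y⁻¹, (Subgroup.mem_normalizer_iff.1 hy x).1 hx, rfl⟩
  have hswapnorm : ∀ τ ∈ swaps S, ∀ s ∈ S₁, τ * s * τ⁻¹ ∈ S₁ := by
    intro τ hτ s hs
    have hse : Perm.sign s = 1 := by obtain ⟨x, -, rfl⟩ := hs; exact Perm.mem_alternatingGroup.1 x.2
    refine hTA _ (mul_mem (mul_mem hτ.2 (hT hs)) (inv_mem hτ.2)) ?_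
    rw [map_mul, map_mul, map_inv, hse, mul_one, mul_inv_cancel]
  have hcard3 : 3 ≤ Nat.card (swaps S) := le_trans (by omega) (card_swaps_ge T)
  -- a transposition normalising the Sylow subgroup is one of the pairs
  have key : ∀ x x' y : α, x ≠ x' → swap x x' ∈ S → x ≠ y → x' ≠ y →
      (∀ s ∈ S₁, swap x y * s * (swap x y)⁻¹ ∈ S₁) → False := by
    intro x x' y hxx hxS hxy hx'y hn'
    have hτ : swap x x' ∈ swaps S := ⟨⟨x, x', hxx, rfl⟩, hxS⟩
    set c := swap x x' * swap x y
    have hc : ∀ s ∈ S₁, c * s * c⁻¹ ∈ S₁ := fun s hs => by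
      have := hswapnorm _ hτ _ (hn' s hs)
      simpa [c, mul_assoc] using this
    have hthird : ∀ A B : Perm α, ∃ ρ ∈ swaps S, ρ ≠ A ∧ ρ ≠ B := by
      intro A B
      by_contra hh
      push_neg at hh
      have : Nat.card (swaps S) ≤ 2 := by
        rw [Nat.card_coe_set_eq]
        refine le_trans (Set.ncard_le_ncard (t := {A, B}) (fun ρ hρ => ?_)) ?_
        · by_cases e : ρ = A
          · exact Or.inl e
          · exact Or.inr (hh ρ hρ e)
        · exact le_trans (Set.ncard_insert_le _ _) (by simp)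
      omega
    have hfix : ∀ ρ ∈ swaps S, ρ ≠ swap x x' → ρ x = x ∧ ρ x' = x' := fun ρ hρ hne => by
      constructor <;> by_contra e <;> refine hne (swaps_common T.2 hρ hτ e ?_)
      · rw [swap_apply_left]; exact hxx.symm
      · rw [swap_apply_right]; exact hxx
    have hcy : c y = x' := by
      simp [c, Perm.mul_apply, swap_apply_right, swap_apply_left]
    have hcx' : c x' = x := by
      simp [c, Perm.mul_apply, swap_apply_of_ne_of_ne hxx.symm hx'y, swap_apply_right]
    have hcx : c x = y := by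
      simp [c, Perm.mul_apply, swap_apply_left, swap_apply_of_ne_of_ne hxy.symm hx'y.symm]
    have hcfix : ∀ z, z ≠ x → z ≠ x' → z ≠ y → c z = z := fun z h1 h2 h3 => by
      simp [c, Perm.mul_apply, swap_apply_of_ne_of_ne h1 h3, swap_apply_of_ne_of_ne h1 h2]
    have heven : ∀ A B : Perm α, A ∈ swaps S → B ∈ swaps S → A * B ∈ S₁ := fun A B hA hB => by
      refine hTA _ (mul_mem hA.2 hB.2) ?_
      rw [map_mul, hA.1.sign_eq, hB.1.sign_eq]; rfl
    have hconjswap : ∀ a b : α, c * swap a b * c⁻¹ = swap (c a) (c b) := fun a b =>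
      (Equiv.swap_apply_apply c a b).symm
    by_cases hy : ∀ ρ ∈ swaps S, ρ y = y
    · obtain ⟨ρ, hρ, hρ1, -⟩ := hthird (swap x x') (swap x x')
      have hv := hT (hc _ (heven _ _ hτ hρ))
      obtain ⟨p, q, hpq, rfl⟩ := hρ.1
      have hp : swap p q x = x ∧ swap p q x' = x' := hfix _ hρ hρ1
      have hyp := hy _ hρ
      have hpne : ∀ z, swap p q z = z → p ≠ z ∧ q ≠ z := fun z hz => by
        constructor <;> rintro rfl <;> simp [hpq, hpq.symm] at hz
      obtain ⟨a1, a2⟩ := hpne x hp.1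
      obtain ⟨b1, b2⟩ := hpne x' hp.2
      obtain ⟨c1, c2⟩ := hpne y hyp
      have e : c * (swap x x' * swap p q) * c⁻¹ = swap y x * swap p q := by
        rw [show c * (swap x x' * swap p q) * c⁻¹ = (c * swap x x' * c⁻¹) * (c * swap p q * c⁻¹) by group,
          hconjswap, hconjswap, hcx, hcx', hcfix p a1 b1 c1, hcfix q a2 b2 c2]
      rw [e] at hv
      have hyx : swap y x ∈ S := by simpa using mul_mem hv (inv_mem hρ.2)
      have := hy (swap y x) ⟨⟨y, x, hxy.symm, rfl⟩, hyx⟩
      rw [swap_apply_left] at this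
      exact hxy this
    · push_neg at hy
      obtain ⟨A, hA, hAy⟩ := hy
      have eA := swap_of_moved hA.1 hAy
      set y' := A y
      have hAne : A ≠ swap x x' := fun e => hAy (by
        show A y = y; rw [e]; exact swap_apply_of_ne_of_ne hxy.symm hx'y.symm)
      obtain ⟨hAx, hAx'⟩ := hfix A hA hAne
      have hy'x : y' ≠ x := fun e => hxy (by
        have := congrArg A e; rw [hAx] at this
        rw [eA, swap_apply_right] at this; exact this.symm)
      have hy'x' : y' ≠ x' := fun e => hx'y (by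
        have := congrArg A e; rw [hAx'] at this
        rw [eA, swap_apply_right] at this; exact this.symm)
      obtain ⟨ρ, hρ, hρ1, hρA⟩ := hthird (swap x x') A
      have hv := hT (hc _ (heven _ _ hA hρ))
      obtain ⟨p, q, hpq, rfl⟩ := hρ.1
      have hp : swap p q x = x ∧ swap p q x' = x' := hfix _ hρ hρ1
      have hyp : swap p q y = y := by
        by_contra e
        exact hρA (swaps_common T.2 hρ hA e hAy)
      have hpne : ∀ z, swap p q z = z → p ≠ z ∧ q ≠ z := fun z hz => by
        constructor <;> rintro rfl <;> simp [hpq, hpq.symm] at hz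
      obtain ⟨a1, a2⟩ := hpne x hp.1
      obtain ⟨b1, b2⟩ := hpne x' hp.2
      obtain ⟨c1, c2⟩ := hpne y hyp
      have e : c * (A * swap p q) * c⁻¹ = swap x' y' * swap p q := by
        rw [show c * (A * swap p q) * c⁻¹ = (c * A * c⁻¹) * (c * swap p q * c⁻¹) by group, eA,
          hconjswap, hconjswap, hcy, hcfix y' hy'x hy'x' hAy, hcfix p a1 b1 c1, hcfix q a2 b2 c2]
      rw [e] at hv
      have h9 : swap x' y' ∈ S := by simpa using mul_mem hv (inv_mem hρ.2)
      have := partner_unique T.2 hxx.symm hy'x'.symm (by rwa [swap_comm]) h9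
      exact hy'x this.symm
  have hgswap : ∀ y ∈ Subgroup.normalizer ((P : Subgroup (alternatingGroup α)) : Set (alternatingGroup α)),
      ∀ τ ∈ swaps S, (y : Perm α) * τ * (y : Perm α)⁻¹ ∈ swaps S := by
    intro y hy τ hτ
    set τ' := (y : Perm α) * τ * (y : Perm α)⁻¹
    have hτn : ∀ s ∈ S₁, τ' * s * τ'⁻¹ ∈ S₁ := by
      intro s hs
      have h1 := hnormS _ (inv_mem hy) s hs
      have h2 := hnormS _ hy _ (hswapnorm τ hτ _ h1)
      convert h2 using 1
      simp only [τ', InvMemClass.coe_inv]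
      group
    refine ⟨isSwap_conj hτ.1 _, ?_⟩
    by_contra hne
    obtain ⟨a, b, hab, e⟩ : ∃ a b, a ≠ b ∧ τ' = swap a b := isSwap_conj hτ.1 _
    rw [e] at hne hτn
    by_cases ha : ∀ ρ ∈ swaps S, ρ a = a
    · have hb : ¬ ∀ ρ ∈ swaps S, ρ b = b := fun hb => hab (unpaired_unique T ha hb)
      push_neg at hb
      obtain ⟨ρ, hρ, hρb⟩ := hb
      have eρ := swap_of_moved hρ.1 hρb
      refine key b (ρ b) a hρb.symm (eρ ▸ hρ.2) hab.symm (fun e' => hne ?_) (by rwa [swap_comm] at hτn)
      rw [swap_comm, ← e', ← eρ]; exact hρ.2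
    · push_neg at ha
      obtain ⟨ρ, hρ, hρa⟩ := ha
      have eρ := swap_of_moved hρ.1 hρa
      refine key a (ρ a) b hρa.symm (eρ ▸ hρ.2) hab (fun e' => hne ?_) hτn
      rw [← e', ← eρ]; exact hρ.2
  have hgN : ∀ y ∈ Subgroup.normalizer ((P : Subgroup (alternatingGroup α)) : Set (alternatingGroup α)),
      (y : Perm α) ∈ Subgroup.normalizer (swaps S) := by
    intro y hy
    rw [Subgroup.mem_set_normalizer_iff]
    refine fun τ => ⟨hgswap y hy τ, fun h => ?_⟩
    have := hgswap _ (inv_mem hy) _ h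
    simpa [mul_assoc] using this
  obtain ⟨Q, hQ⟩ := phi_image_sylow T
  have hQ' : ∀ a ∈ (Q : Subgroup (Perm (swaps S))), ∃ s : Perm α, ∃ hs : s ∈ S₁,
      phi S ⟨s, self_le_normalizer_swaps S (hT hs)⟩ = a := by
    intro a ha
    rw [hQ] at ha
    obtain ⟨t, ht, rfl⟩ := ha
    rcases Int.units_eq_one_or (Perm.sign t.1) with hs | hs
    · exact ⟨t.1, hTA _ ht hs, rfl⟩
    · obtain ⟨⟨τ, hτ⟩⟩ : Nonempty (swaps S) := (Nat.card_pos_iff.1 (by omega)).1
      refine ⟨t.1 * τ, hTA _ (mul_mem ht hτ.2) (by rw [map_mul, hs, hτ.1.sign_eq]; rfl), ?_⟩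
      have hτ1 : phi S ⟨τ, self_le_normalizer_swaps S hτ.2⟩ = 1 := by
        refine Equiv.ext fun σ => Subtype.ext ?_
        rw [phi_apply, Perm.one_apply]
        by_cases e : σ.1 = τ
        · simp [e]
        · have : Perm.Disjoint τ σ.1 := fun z => by
            by_contra hz
            push_neg at hz
            exact e (swaps_common T.2 σ.2 hτ hz.2 hz.1)
          rw [this.commute.eq, mul_inv_cancel_right]
      have : (⟨t.1 * τ, self_le_normalizer_swaps S (mul_mem ht hτ.2)⟩ : Subgroup.normalizer (swaps S)) =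
          t * ⟨τ, self_le_normalizer_swaps S hτ.2⟩ := rfl
      rw [this, map_mul, hτ1, mul_one]
  have hnorm : phi S ⟨g, hgN g hg⟩ ∈ Subgroup.normalizer ((Q : Subgroup (Perm (swaps S))) : Set (Perm (swaps S))) := by
    have key2 : ∀ y (hy : y ∈ Subgroup.normalizer ((P : Subgroup (alternatingGroup α)) : Set (alternatingGroup α))),
        ∀ a, a ∈ Q → phi S ⟨y, hgN y hy⟩ * a * (phi S ⟨y, hgN y hy⟩)⁻¹ ∈ (Q : Subgroup _) := by
      intro y hy a ha
      obtain ⟨s, hs, rfl⟩ := hQ' a ha
      rw [hQ, ← map_inv, ← map_mul, ← map_mul]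
      exact ⟨_, Subgroup.mem_subgroupOf.2 (hT (hnormS y hy s hs)), rfl⟩
    rw [Subgroup.mem_normalizer_iff]
    refine fun a => ⟨key2 g hg a, fun ha => ?_⟩
    have := key2 g⁻¹ (inv_mem hg) _ ha
    rw [show (⟨((g⁻¹ : alternatingGroup α) : Perm α), hgN g⁻¹ (inv_mem hg)⟩ : Subgroup.normalizer (swaps S)) =
      ⟨g, hgN g hg⟩⁻¹ from rfl, map_inv] at this
    simpa [mul_assoc] using this
  obtain ⟨s, hs, es⟩ := hQ' _ (normalizer_sylow Q hnorm)
  obtain ⟨x, hx, rfl⟩ := hs
  have hy : x⁻¹ * g ∈ P := by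
    refine mem_of_sq P (mul_mem (inv_mem (Subgroup.le_normalizer hx)) hg) (Subtype.ext ?_)
    have hsN := self_le_normalizer_swaps S (hT (Subgroup.mem_map_of_mem (alternatingGroup α).subtype hx))
    exact ker_phi T (g := (⟨(x : Perm α), hsN⟩ : Subgroup.normalizer (swaps S))⁻¹ * ⟨g, hgN g hg⟩)
      (by rw [map_mul, map_inv, ← es]; exact inv_mul_cancel _)
  have := mul_mem hx hy
  simpa using this

end Cfsg.Agent.SymSylow
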