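import Mathlib
import Cfsg.Agent.Lib.Basics.Tools

/-!
# Sylow subgroups of symmetric and alternating groups are generated by elements of order `p`
-/

set_option autoImplicit false
set_option linter.unusedSectionVars false

namespace Cfsg.Agent.SymSylow

open Equiv Subgroup

/-- Generation by elements of exponent `p`. -/
def GenByP {H : Type*} [Group H] (p : ℕ) (W : Subgroup H) : Prop :=
  W ≤ closure {g | g ∈ W ∧ g ^ p = 1}

theorem genByP_map {H K : Type*} [Group H] [Group K] (f : H →* K) {p : ℕ} {W : Subgroup H}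
    (h : GenByP p W) : GenByP p (W.map f) := by
  refine (Subgroup.map_mono h).trans ?_
  rw [MonoidHom.map_closure]
  refine closure_mono ?_
  rintro _ ⟨g, ⟨hg, hgp⟩, rfl⟩
  exact ⟨⟨g, hg, rfl⟩, by rw [← map_pow, hgp, map_one]⟩

theorem genByP_top_of {H : Type*} [Group H] {p : ℕ} {W : Subgroup H} (h : GenByP p W) :
    GenByP p (⊤ : Subgroup W) := by
  intro x _
  have h1 : (x : H) ∈ (closure {g : W | g ∈ (⊤ : Subgroup W) ∧ g ^ p = 1}).map W.subtype := by
    rw [MonoidHom.map_closure]
    refine closure_mono ?_ (h x.2)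
    rintro g ⟨hg, hgp⟩
    exact ⟨⟨g, hg⟩, ⟨mem_top _, Subtype.ext hgp⟩, rfl⟩
  obtain ⟨y, hy, hyx⟩ := h1
  exact (Subtype.ext hyx : y = x) ▸ hy

/-- The powers of a group generated by elements of exponent `p` lie in the commutator subgroup. -/
theorem pow_mem_commutator {K : Type*} [Group K] {p : ℕ} (h : GenByP p (⊤ : Subgroup K)) (x : K) :
    x ^ p ∈ commutator K := by
  rw [← Abelianization.ker_of, MonoidHom.mem_ker, map_pow]
  induction h (mem_top x) using closure_induction with
  | mem y hy => rw [← map_pow, hy.2, map_one]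
  | one => rw [map_one, one_pow]
  | mul y z _ _ hy hz => rw [map_mul, mul_pow, hy, hz, one_mul]
  | inv y _ hy => rw [map_inv, inv_pow, hy, inv_one]

variable {p : ℕ} [hp : Fact p.Prime]

section Wreath

variable (p) (q r : ℕ)

/-- Translations inside the blocks. -/
def baseHom : (Fin q → Multiplicative (ZMod p)) →* Perm ((Fin q × ZMod p) ⊕ Fin r) where
  toFun v :=
    { toFun := Sum.map (fun a => (a.1, (v a.1).toAdd + a.2)) id
      invFun := Sum.map (fun a => (a.1, -(v a.1).toAdd + a.2)) id
      left_inv := fun a => by rcases a with ⟨i, z⟩ | a <;> simp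
      right_inv := fun a => by rcases a with ⟨i, z⟩ | a <;> simp }
  map_one' := Equiv.ext fun a => by rcases a with ⟨i, z⟩ | a <;> simp
  map_mul' v w := Equiv.ext fun a => by rcases a with ⟨i, z⟩ | a <;> simp [add_assoc]

/-- Permutations of the blocks. -/
def liftHom : Perm (Fin q) →* Perm ((Fin q × ZMod p) ⊕ Fin r) where
  toFun σ := Equiv.sumCongr (Equiv.prodCongrLeft fun _ => σ) (Equiv.refl _)
  map_one' := Equiv.ext fun a => by rcases a with ⟨i, z⟩ | a <;> simp
  map_mul' σ τ := Equiv.ext fun a => by rcases a with ⟨i, z⟩ | a <;> simp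

theorem baseHom_injective : Function.Injective (baseHom p q r) := fun v w h => funext fun i => by
  have := congrArg (fun f : Perm _ => f (Sum.inl (i, 0))) h
  simpa [baseHom] using this

theorem liftHom_injective : Function.Injective (liftHom p q r) := fun σ τ h => Equiv.ext fun i => by
  have := congrArg (fun f : Perm _ => f (Sum.inl (i, 0))) h
  simpa [liftHom] using this

theorem lift_conj_base (σ : Perm (Fin q)) (v : Fin q → Multiplicative (ZMod p)) :
    liftHom p q r σ * baseHom p q r v * (liftHom p q r σ)⁻¹ = baseHom p q r fun i => v (σ.symm i) := by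
  rw [mul_inv_eq_iff_eq_mul]
  refine Equiv.ext fun a => ?_
  rcases a with ⟨i, z⟩ | a <;> simp [baseHom, liftHom]

theorem base_pow (v : Fin q → Multiplicative (ZMod p)) : baseHom p q r v ^ p = 1 := by
  rw [← map_pow, show v ^ p = 1 from funext fun i => Multiplicative.toAdd.injective (by simp), map_one]

end Wreath

/-- A transferable witness: a subgroup of full `p`-part generated by elements of exponent `p`,
together with its even part for `p = 2`. -/
def Witness (p : ℕ) (α : Type) [Fintype α] [DecidableEq α] : Prop :=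
  ∃ W : Subgroup (Perm α), Nat.card W = p ^ ((Fintype.card α).factorial).factorization p ∧
    GenByP p W ∧ (p = 2 → GenByP p (W ⊓ (Perm.sign : Perm α →* ℤˣ).ker))

theorem witness_congr {α β : Type} [Fintype α] [DecidableEq α] [Fintype β] [DecidableEq β]
    (e : α ≃ β) (h : Witness p α) : Witness p β := by
  obtain ⟨W, hW, hgen, heven⟩ := h
  let f : Perm α →* Perm β := (Equiv.permCongrHom e).toMonoidHom
  refine ⟨W.map f, ?_, genByP_map f hgen, fun h2 => ?_⟩
  · rw [card_map_of_injective (Equiv.permCongrHom e).injective, hW, Fintype.card_congr e]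
  · have hk : W.map f ⊓ (Perm.sign : Perm β →* ℤˣ).ker = (W ⊓ (Perm.sign : Perm α →* ℤˣ).ker).map f := by
      ext g
      constructor
      · rintro ⟨⟨a, ha, rfl⟩, hg⟩
        exact ⟨a, ⟨ha, by simpa [f, Equiv.Perm.sign_permCongr] using hg⟩, rfl⟩
      · rintro ⟨a, ⟨ha, hg⟩, rfl⟩
        exact ⟨⟨a, ha, rfl⟩, by simpa [f, Equiv.Perm.sign_permCongr] using hg⟩
    rw [hk]
    exact genByP_map f (heven h2)

theorem exists_witness : ∀ n : ℕ, Witness p (Fin n) := by
  intro n
  induction n using Nat.strong_induction_on with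
  | _ n ih =>
  rcases Nat.lt_or_ge n p with hn | hn
  · have h0 : (n.factorial).factorization p = 0 := Nat.factorization_eq_zero_of_not_dvd fun h =>
      absurd ((hp.out.dvd_factorial).mp h) (not_le.mpr hn)
    refine ⟨⊥, by rw [card_bot, Fintype.card_fin, h0, pow_zero], bot_le, fun _ => ?_⟩
    rw [bot_inf_eq]
    exact bot_le
  set q := n / p with hq
  set r := n % p with hr
  have hqn : q < n := Nat.div_lt_self (by have := hp.out.pos; omega) hp.out.one_lt
  obtain ⟨W', hW', hgen', -⟩ := ih q hqn
  haveI : NeZero p := ⟨hp.out.ne_zero⟩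
  have e : (Fin q × ZMod p) ⊕ Fin r ≃ Fin n := Fintype.equivFinOfCardEq (by
    simp [hq, hr, Nat.div_add_mod' n p])
  refine witness_congr e ?_
  set B := (baseHom p q r).range with hB
  set L := W'.map (liftHom p q r) with hL
  have hnorm : L ≤ Subgroup.normalizer (B : Set (Perm ((Fin q × ZMod p) ⊕ Fin r))) := by
    rintro _ ⟨σ, -, rfl⟩
    refine Subgroup.mem_normalizer_fintype ?_
    rintro _ ⟨v, rfl⟩
    exact ⟨_, (lift_conj_base p q r σ v).symm⟩
  have hinf : B ⊓ L = ⊥ := by
    rw [eq_bot_iff]
    rintro _ ⟨⟨v, rfl⟩, σ, -, hσ⟩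
    rw [mem_bot, ← hσ, show σ = 1 from Equiv.ext fun i => ?_, map_one]
    have := congrArg (fun f : Perm _ => f (Sum.inl (i, (0 : ZMod p)))) hσ
    simp [baseHom, liftHom] at this
    exact this.1
  have hcard : Nat.card (B ⊔ L : Subgroup _) = p ^ q * p ^ (q.factorial).factorization p := by
    have h1 := Basics.card_mul_card_eq_card_sup_mul_card_inf (H := L) (N := B) hnorm
    rw [hinf, card_bot, mul_one] at h1
    rw [← h1, hB, Nat.card_congr (MonoidHom.ofInjective (baseHom_injective p q r)).toEquiv.symm,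
      hL, card_map_of_injective (liftHom_injective p q r), hW', Fintype.card_fin]
    simp [Nat.card_eq_fintype_card, mul_comm]
  have hfac : (n.factorial).factorization p = q + (q.factorial).factorization p := by
    rw [Nat.factorization_def _ hp.out, Nat.factorization_def _ hp.out,
      show n = p * q + r from (Nat.div_add_mod n p).symm,
      padicValNat_factorial_mul_add _ (Nat.mod_lt _ hp.out.pos), padicValNat_factorial_mul, add_comm]
  refine ⟨B ⊔ L, ?_, ?_, fun h2 => ?_⟩
  · rw [hcard, ← pow_add, Fintype.card_congr e, Fintype.card_fin, hfac]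
  · refine sup_le ?_ ?_
    · rintro _ ⟨v, rfl⟩
      exact subset_closure ⟨mem_sup_left ⟨v, rfl⟩, base_pow p q r v⟩
    · refine (genByP_map (liftHom p q r) hgen').trans (closure_mono ?_)
      exact fun g hg => ⟨mem_sup_right hg.1, hg.2⟩
  · intro g hg
    obtain ⟨hgW, hgs⟩ := mem_inf.mp hg
    obtain ⟨b, hb, l, hl, rfl⟩ : ∃ b ∈ B, ∃ l ∈ L, b * l = g := by
      rwa [← SetLike.mem_coe, Subgroup.coe_mul_of_right_le_normalizer_left B L hnorm, Set.mem_mul] at hgW
    have hsl : ∀ l ∈ L, Perm.sign l = 1 := by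
      rintro _ ⟨σ, -, rfl⟩
      show Perm.sign (Equiv.sumCongr (Equiv.prodCongrLeft fun _ : ZMod p => σ) (Equiv.refl (Fin r))) = 1
      rw [Perm.sign_sumCongr, Perm.sign_prodCongrLeft, Perm.sign_refl, mul_one, Finset.prod_const,
        Finset.card_univ, ZMod.card, h2]
      exact Int.units_sq _
    have hbs : Perm.sign b = 1 := by
      have : Perm.sign (b * l) = 1 := hgs
      rwa [Perm.sign_mul, hsl l hl, mul_one] at this
    refine mul_mem (subset_closure ⟨⟨mem_sup_left hb, hbs⟩, ?_⟩) ?_
    · obtain ⟨v, rfl⟩ := hb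
      exact base_pow p q r v
    · refine (?_ : L ≤ _) hl
      refine (genByP_map (liftHom p q r) hgen').trans (closure_mono ?_)
      exact fun g hg => ⟨⟨mem_sup_right hg.1, hsl g hg.1⟩, hg.2⟩

theorem exists_conj_witness (n : ℕ) (P : Sylow p (Perm (Fin n))) :
    ∃ (W : Subgroup (Perm (Fin n))) (g : Perm (Fin n)), GenByP p W ∧
      (p = 2 → GenByP p (W ⊓ (Perm.sign : Perm (Fin n) →* ℤˣ).ker)) ∧
      (P : Subgroup (Perm (Fin n))) = W.map (MulAut.conj g).toMonoidHom := by
  obtain ⟨W, hW, hgen, heven⟩ := exists_witness (p := p) n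
  have hc : Nat.card W = p ^ (Nat.card (Perm (Fin n))).factorization p := by
    rw [hW, Nat.card_perm, Nat.card_fin, Fintype.card_fin]
  obtain ⟨g, hg⟩ := MulAction.exists_smul_eq (Perm (Fin n)) (Sylow.ofCard W hc) P
  exact ⟨W, g, hgen, heven, by rw [← hg]; rfl⟩

end Cfsg.Agent.SymSylow
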