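import Cfsg.Agent.Lib.SymSylow.Blocks
import Cfsg.Prelude.Def_TwoFusion

/-!
Direct decomposability of products of iterated wreath blocks and of their even parts,
and their realisation as Sylow 2-subgroups of alternating groups.
-/

set_option autoImplicit false

namespace Cfsg.Agent.SylBlocks

open Equiv Equiv.Perm

/-- Internal decomposability. -/
def Dec (H : Type*) [Group H] : Prop :=
  ∃ A B : Subgroup H, A ≠ ⊥ ∧ B ≠ ⊥ ∧ (∀ a ∈ A, ∀ b ∈ B, a * b = b * a) ∧ A ⊓ B = ⊥ ∧ A ⊔ B = ⊤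

theorem dec_congr {H K : Type*} [Group H] [Group K] (e : H ≃* K) (h : Dec H) : Dec K := by
  obtain ⟨A, B, hA, hB, hc, hi, hs⟩ := h
  refine ⟨A.map e.toMonoidHom, B.map e.toMonoidHom, ?_, ?_, ?_, ?_, ?_⟩
  · rwa [Ne, Subgroup.map_eq_bot_iff_of_injective _ e.injective]
  · rwa [Ne, Subgroup.map_eq_bot_iff_of_injective _ e.injective]
  · rintro _ ⟨a, ha, rfl⟩ _ ⟨b, hb, rfl⟩
    rw [← map_mul, ← map_mul, hc a ha b hb]
  · rw [← Subgroup.map_inf _ _ _ e.injective, hi, Subgroup.map_bot]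
  · rw [← Subgroup.map_sup, hs, Subgroup.map_top_of_surjective _ e.surjective]

theorem dec_iff {G : Type*} [Group G] (S : Subgroup G) :
    (∃ S₁ S₂ : Subgroup G, S₁ ≠ ⊥ ∧ S₂ ≠ ⊥ ∧ Cfsg.IsInternalDirectProduct S₁ S₂ S) ↔ Dec S := by
  constructor
  · rintro ⟨A, B, hA, hB, hAS, hBS, hc, hi, hs⟩
    refine ⟨A.subgroupOf S, B.subgroupOf S, ?_, ?_, ?_, ?_, ?_⟩
    · rw [Ne, Subgroup.subgroupOf_eq_bot]; exact fun h => hA (h.eq_bot_of_le hAS)
    · rw [Ne, Subgroup.subgroupOf_eq_bot]; exact fun h => hB (h.eq_bot_of_le hBS)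
    · exact fun a ha b hb => Subtype.ext (hc _ ha _ hb)
    · rw [eq_bot_iff]
      intro x hx
      have : x.1 ∈ A ⊓ B := Subgroup.mem_inf.2 ⟨hx.1, hx.2⟩
      rw [hi, Subgroup.mem_bot] at this
      exact Subgroup.mem_bot.2 (Subtype.ext this)
    · rw [← Subgroup.subgroupOf_sup hAS hBS, hs, Subgroup.subgroupOf_self]
  · rintro ⟨A, B, hA, hB, hc, hi, hs⟩
    refine ⟨A.map S.subtype, B.map S.subtype, ?_, ?_, Subgroup.map_subtype_le A,
      Subgroup.map_subtype_le B, ?_, ?_, ?_⟩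
    · rwa [Ne, Subgroup.map_eq_bot_iff_of_injective _ S.subtype_injective]
    · rwa [Ne, Subgroup.map_eq_bot_iff_of_injective _ S.subtype_injective]
    · rintro _ ⟨a, ha, rfl⟩ _ ⟨b, hb, rfl⟩
      rw [← map_mul, ← map_mul, hc a ha b hb]
    · rw [← Subgroup.map_inf _ _ _ S.subtype_injective, hi, Subgroup.map_bot]
    · rw [← Subgroup.map_sup, hs, ← MonoidHom.range_eq_map, Subgroup.range_subtype]

theorem gen_of_sup {H : Type*} [Group H] {A B : Subgroup H}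
    (hc : ∀ a ∈ A, ∀ b ∈ B, a * b = b * a) (hs : A ⊔ B = ⊤) :
    B.Normal ∧ A.Normal ∧ ∀ g, ∃ a ∈ A, ∃ b ∈ B, g = a * b := by
  have hN : ∀ {A B : Subgroup H}, (∀ a ∈ A, ∀ b ∈ B, a * b = b * a) → A ⊔ B = ⊤ → B.Normal := by
    intro A B hc hs
    rw [← Subgroup.normalizer_eq_top_iff, eq_top_iff, ← hs]
    refine sup_le (fun a ha => ?_) Subgroup.le_normalizer
    rw [Subgroup.mem_normalizer_iff]
    intro x
    refine ⟨fun hx => by rw [hc a ha x hx, mul_inv_cancel_right]; exact hx, fun hx => ?_⟩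
    have h := hc a ha _ hx
    have : a * x * a⁻¹ = x := by
      have h2 : a * (a * x * a⁻¹) * a⁻¹ = a * x * a⁻¹ := by rw [h]; group
      calc a * x * a⁻¹ = a⁻¹ * (a * (a * x * a⁻¹) * a⁻¹) * a := by group
        _ = a⁻¹ * (a * x * a⁻¹) * a := by rw [h2]
        _ = x := by group
    rwa [this] at hx
  have hB := hN hc hs
  refine ⟨hB, hN (fun b hb a ha => (hc a ha b hb).symm) (by rwa [sup_comm]), fun g => ?_⟩
  haveI := hB
  obtain ⟨a, ha, b, hb, e⟩ := Subgroup.mem_sup_of_normal_right.1 (hs ▸ Subgroup.mem_top g)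
  exact ⟨a, ha, b, hb, e.symm⟩

/-- A 2-group whose centre has order two is indecomposable. -/
theorem not_dec_of_center {H : Type*} [Group H] [Finite H] (hp : IsPGroup 2 H) (z : H)
    (hz : ∀ x : H, (∀ y, y * x = x * y) → x = 1 ∨ x = z) : ¬ Dec H := by
  rintro ⟨A, B, hA, hB, hc, hi, hs⟩
  obtain ⟨-, -, hgen⟩ := gen_of_sup hc hs
  have key : ∀ {A B : Subgroup H}, A ≠ ⊥ → (∀ a ∈ A, ∀ b ∈ B, a * b = b * a) →
      (∀ g, ∃ a ∈ A, ∃ b ∈ B, g = a * b) → z ∈ A ∧ z ≠ 1 := by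
    intro A B hA hc hgen
    haveI : Nontrivial A := (Subgroup.nontrivial_iff_ne_bot A).2 hA
    haveI := (hp.to_subgroup A).center_nontrivial
    obtain ⟨w, hw⟩ := exists_ne (1 : Subgroup.center A)
    have hw1 : (w.1.1 : H) ≠ 1 := fun h => hw (Subtype.ext (Subtype.ext h))
    have hcomm : ∀ y, y * w.1.1 = w.1.1 * y := by
      intro y
      obtain ⟨a, ha, b, hb, rfl⟩ := hgen y
      have h1 : a * w.1.1 = w.1.1 * a := congrArg Subtype.val (Subgroup.mem_center_iff.1 w.2 ⟨a, ha⟩)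
      rw [mul_assoc, ← hc _ w.1.2 b hb, ← mul_assoc, h1, mul_assoc]
    rcases hz _ hcomm with h | h
    · exact absurd h hw1
    · exact ⟨h ▸ w.1.2, h ▸ hw1⟩
  obtain ⟨hzA, hz1⟩ := key hA hc hgen
  have hgen' : ∀ g, ∃ b ∈ B, ∃ a ∈ A, g = b * a := fun g => by
    obtain ⟨a, ha, b, hb, rfl⟩ := hgen g
    exact ⟨b, hb, a, ha, hc a ha b hb⟩
  obtain ⟨hzB, -⟩ := key hB (fun b hb a ha => (hc a ha b hb).symm) hgen'
  have : z ∈ A ⊓ B := Subgroup.mem_inf.2 ⟨hzA, hzB⟩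
  rw [hi, Subgroup.mem_bot] at this
  exact hz1 this

variable (B : Finset ℕ)

/-- Product of blocks of sizes `2^(i+2)`, `i ∈ B`. -/
abbrev W : Type := ∀ i : B, Tw (i.1 + 1)

/-- The sign on the product. -/
def sgnW : W B →* ℤˣ where
  toFun x := ∏ i, sign (x i).1
  map_one' := by simp
  map_mul' x y := by simp [Finset.prod_mul_distrib]

theorem mS_same (i : B) (g : Tw (i.1 + 1)) : (Pi.mulSingle i g : W B) i = g :=
  Pi.mulSingle_eq_same (M := fun i : B => ↥(Tw (i.1 + 1))) i g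

theorem mS_ne {i j : B} (h : j ≠ i) (g : Tw (i.1 + 1)) : (Pi.mulSingle i g : W B) j = 1 :=
  Pi.mulSingle_eq_of_ne (M := fun i : B => ↥(Tw (i.1 + 1))) h g

/-- The action on the disjoint union. -/
def iotaW : W B →* Perm (Σ i : B, Pts (i.1 + 1)) :=
  (sigmaCongrRightHom fun i : B => Pts (i.1 + 1)).comp
    (Pi.monoidHom fun i => (Tw (i.1 + 1)).subtype.comp (Pi.evalMonoidHom _ i))

theorem iotaW_injective : Function.Injective (iotaW B) := by
  intro x y h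
  funext i
  refine Subtype.ext (Equiv.ext fun p => ?_)
  have h' := congrArg (fun e : Perm (Σ i : B, Pts (i.1 + 1)) => e ⟨i, p⟩) h
  exact eq_of_heq (Sigma.mk.inj_iff.1 h').2

theorem sign_iotaW (x : W B) : sign (iotaW B x) = sgnW B x := by
  suffices (sign.comp (iotaW B)) = sgnW B from congrArg (fun f : W B →* ℤˣ => f x) this
  refine MonoidHom.ext fun y => ?_
  change y ∈ MonoidHom.eqLocus (sign.comp (iotaW B)) (sgnW B)
  refine Subgroup.pi_mem_of_mulSingle_mem y fun i => ?_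
  set g := y i
  show sign (iotaW B (Pi.mulSingle i g)) = sgnW B (Pi.mulSingle i g)
  have hr : sgnW B (Pi.mulSingle i g) = sign g.1 := by
    show ∏ j, sign ((Pi.mulSingle i g : W B) j).1 = _
    rw [Finset.prod_eq_single i (fun j _ hj => by simp [Pi.mulSingle_eq_of_ne hj])
      (fun h => absurd (Finset.mem_univ i) h), Pi.mulSingle_eq_same]
  have he : iotaW B (Pi.mulSingle i g) = g.1.extendDomain
      (Equiv.sigmaSubtype (β := fun i : B => Pts (i.1 + 1)) i).symm := by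
    ext1 ⟨j, p⟩
    by_cases hj : j = i
    · subst hj
      rw [show (⟨j, p⟩ : Σ i : B, Pts (i.1 + 1)) =
        ((Equiv.sigmaSubtype (β := fun i : B => Pts (i.1 + 1)) j).symm p : Σ i : B, Pts (i.1 + 1))
          from rfl, Equiv.Perm.extendDomain_apply_image]
      simp [iotaW, Pi.monoidHom, Equiv.sigmaSubtype]
    · rw [Equiv.Perm.extendDomain_apply_not_subtype _ _ (by simpa using hj)]
      simp [iotaW, Pi.monoidHom, Pi.mulSingle_eq_of_ne hj]
  rw [he, hr, sign_extendDomain]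

theorem card_W : Nat.card (W B) = 2 ^ (∑ i ∈ B, (2 ^ (i + 2) - 1)) := by
  rw [Nat.card_pi, ← Finset.prod_pow_eq_pow_sum, ← Finset.prod_coe_sort B]
  exact Finset.prod_congr rfl fun i _ => card_Tw (i.1 + 1)

theorem isPGroup_W : IsPGroup 2 (W B) := IsPGroup.of_card (card_W B)

theorem dec_W {i j : B} (h : i ≠ j) : Dec (W B) := by
  have nt : ∀ i : B, ∃ t : Tw (i.1 + 1), t ≠ 1 := fun i => by
    obtain ⟨t, ht, ho⟩ := (pre_Tw (i.1 + 1)).exists_odd
    exact ⟨⟨t, ht⟩, fun e => by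
      have : t = 1 := congrArg Subtype.val e
      rw [this, map_one] at ho
      exact absurd ho (by decide)⟩
  let A : Subgroup (W B) := (MonoidHom.mulSingle (fun i : B => ↥(Tw (i.1 + 1))) i).range
  let C : Subgroup (W B) := (Pi.evalMonoidHom (fun i : B => ↥(Tw (i.1 + 1))) i).ker
  refine ⟨A, C, ?_, ?_, ?_, ?_, ?_⟩
  · obtain ⟨t, ht⟩ := nt i
    intro e
    have : (Pi.mulSingle i t : W B) ∈ A := ⟨t, rfl⟩
    rw [e, Subgroup.mem_bot] at this
    exact ht (by simpa using congrFun this i)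
  · obtain ⟨t, ht⟩ := nt j
    intro e
    have : (Pi.mulSingle j t : W B) ∈ C := by
      show (Pi.mulSingle j t : W B) i = 1
      exact mS_ne B h t
    rw [e, Subgroup.mem_bot] at this
    exact ht (by simpa using congrFun this j)
  · rintro _ ⟨t, rfl⟩ c (hc : c i = 1)
    funext k
    by_cases hk : k = i
    · subst hk; simp [hc]
    · simp [Pi.mulSingle_eq_of_ne hk]
  · rw [eq_bot_iff]
    intro x hx
    obtain ⟨⟨t, rfl⟩, hc⟩ := Subgroup.mem_inf.1 hx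
    have : t = 1 := (mS_same B i t).symm.trans hc
    simp [this]
  · rw [eq_top_iff]
    intro x _
    rw [show x = Pi.mulSingle i (x i) * ((Pi.mulSingle i (x i))⁻¹ * x) by group]
    refine Subgroup.mul_mem_sup ⟨x i, rfl⟩ ?_
    show ((Pi.mulSingle i (x i))⁻¹ * x : W B) i = 1
    simp

theorem not_dec_W (h : ∀ i j : B, i = j) (hB : B.Nonempty) : ¬ Dec (W B) := by
  obtain ⟨i, hi⟩ := hB
  obtain ⟨z, hz, -, hc⟩ := (pre_Tw (i + 1)).center
  refine not_dec_of_center (isPGroup_W B) (Pi.mulSingle ⟨i, hi⟩ ⟨z, hz⟩) fun x hx => ?_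
  rcases (hc _ (x ⟨i, hi⟩).2).1 (fun y hy => by
    have := congrFun (hx (Pi.mulSingle ⟨i, hi⟩ ⟨y, hy⟩)) ⟨i, hi⟩
    simp only [Pi.mul_apply, Pi.mulSingle_eq_same] at this
    exact congrArg Subtype.val this) with e | e
  · left; funext k; obtain rfl := h ⟨i, hi⟩ k; exact Subtype.ext e
  · right; funext k; obtain rfl := h ⟨i, hi⟩ k
    rw [Pi.mulSingle_eq_same]; exact Subtype.ext e

theorem sgnW_mulSingle (i : B) (g : Tw (i.1 + 1)) :
    sgnW B (Pi.mulSingle i g) = sign g.1 := by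
  show ∏ j, sign ((Pi.mulSingle i g : W B) j).1 = _
  rw [Finset.prod_eq_single i (fun j _ hj => by simp [Pi.mulSingle_eq_of_ne hj])
    (fun h => absurd (Finset.mem_univ i) h), Pi.mulSingle_eq_same]

theorem card_ker (hB : B.Nonempty) :
    Nat.card (sgnW B).ker = 2 ^ (∑ i ∈ B, (2 ^ (i + 2) - 1) - 1) := by
  obtain ⟨i, hi⟩ := hB
  obtain ⟨t, ht, ho⟩ := (pre_Tw (i + 1)).exists_odd
  have hr : (sgnW B).range = ⊤ := by
    rw [eq_top_iff]
    intro u _
    rcases Int.units_eq_one_or u with rfl | rfl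
    · exact one_mem _
    · exact ⟨Pi.mulSingle ⟨i, hi⟩ ⟨t, ht⟩, by rw [sgnW_mulSingle]; exact ho⟩
  have h := Subgroup.card_mul_index (sgnW B).ker
  rw [Subgroup.index_ker, hr, Subgroup.card_top, card_W,
    show Nat.card ℤˣ = 2 by simp [Nat.card_eq_fintype_card]] at h
  have h1 : 1 ≤ ∑ j ∈ B, (2 ^ (j + 2) - 1) := by
    refine le_trans ?_ (Finset.single_le_sum (fun j _ => Nat.zero_le _) hi)
    have : 2 ≤ 2 ^ (i + 2) := Nat.le_self_pow (by omega) 2
    omega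
  obtain ⟨d, hd⟩ : ∃ d, ∑ j ∈ B, (2 ^ (j + 2) - 1) = d + 1 := ⟨_, (Nat.sub_add_cancel h1).symm⟩
  rw [hd, pow_succ] at h
  rw [hd, Nat.add_sub_cancel]
  omega

theorem not_dec_ker_single {i : ℕ} (hi : 1 ≤ i) (hB : B = {i}) : ¬ Dec (sgnW B).ker := by
  subst hB
  have hmem : i ∈ ({i} : Finset ℕ) := Finset.mem_singleton_self i
  set i' : ({i} : Finset ℕ) := ⟨i, hmem⟩
  have hsub : ∀ k, k = i' := fun k => Subtype.ext (Finset.mem_singleton.1 k.2)
  obtain ⟨k, rfl⟩ : ∃ k, i = k + 1 := ⟨i - 1, by omega⟩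
  obtain ⟨z, hz, -, hc⟩ := (good_Tw (k + 1)).center
  have hzc := (hc z hz).2 (Or.inr rfl)
  have hze : sgnW _ (Pi.mulSingle i' ⟨z, hz⟩) = 1 := by
    rw [sgnW_mulSingle]; exact (good_Tw (k + 1)).center_even z hz hzc
  refine not_dec_of_center ((isPGroup_W _).to_subgroup _) ⟨_, hze⟩ fun x hx => ?_
  have hcen := even_center_double (good_Tw k) (x.1 i').2 (fun y hy hys => by
    have hy' : (Pi.mulSingle i' ⟨y, hy⟩ : W {k + 1}) ∈ (sgnW _).ker := by
      rw [MonoidHom.mem_ker, sgnW_mulSingle]; exact hys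
    have := congrFun (congrArg Subtype.val (hx ⟨_, hy'⟩)) i'
    simp only [Subgroup.coe_mul, Pi.mul_apply, Pi.mulSingle_eq_same] at this
    exact congrArg Subtype.val this)
  rcases (hc _ (x.1 i').2).1 hcen with e | e
  · left; refine Subtype.ext (funext fun j => ?_); obtain rfl := hsub j; exact Subtype.ext e
  · right; refine Subtype.ext (funext fun j => ?_); obtain rfl := hsub j
    show x.1 i' = (Pi.mulSingle i' ⟨z, hz⟩ : W {k + 1}) i'
    rw [Pi.mulSingle_eq_same]; exact Subtype.ext e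

theorem not_dec_ker_many {i₁ j₁ : B} (h : i₁ ≠ j₁) : ¬ Dec (sgnW B).ker := by
  rintro ⟨A, C, hA, hC, hc, hi, hs⟩
  obtain ⟨hCn, hAn, hgen⟩ := gen_of_sup hc hs
  have hodd : ∀ i : B, ∃ t : Tw (i.1 + 1), sign t.1 = -1 := fun i => by
    obtain ⟨t, ht, ho⟩ := (pre_Tw (i.1 + 1)).exists_odd
    exact ⟨⟨t, ht⟩, ho⟩
  choose o ho using hodd
  -- the coordinate maps are onto
  have lift : ∀ (i : B) (t : Tw (i.1 + 1)), ∃ x : (sgnW B).ker, x.1 i = t := by
    intro i t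
    obtain ⟨j, hj⟩ : ∃ j, j ≠ i := by
      rcases eq_or_ne i₁ i with e | e
      exacts [⟨j₁, fun e' => h (e.trans e'.symm)⟩, ⟨i₁, e⟩]
    rcases Int.units_eq_one_or (sign t.1) with e | e
    · exact ⟨⟨Pi.mulSingle i t, by rw [MonoidHom.mem_ker, sgnW_mulSingle, e]⟩, mS_same B i t⟩
    · refine ⟨⟨Pi.mulSingle i t * Pi.mulSingle j (o j), ?_⟩, ?_⟩
      · rw [MonoidHom.mem_ker, map_mul, sgnW_mulSingle, sgnW_mulSingle, e, ho]
        exact Int.units_mul_self _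
      · simp [Pi.mulSingle_eq_of_ne (Ne.symm hj)]
  let f : ∀ i : B, (sgnW B).ker →* Perm (Pts (i.1 + 1)) := fun i =>
    (Tw (i.1 + 1)).subtype.comp ((Pi.evalMonoidHom _ i).comp (sgnW B).ker.subtype)
  -- one factor is central in each coordinate
  have hcp : ∀ i : B, (∀ a ∈ A, ∀ y ∈ Tw (i.1 + 1), y * f i a = f i a * y) ∨
      (∀ c ∈ C, ∀ y ∈ Tw (i.1 + 1), y * f i c = f i c * y) := by
    intro i
    have hle : ∀ S : Subgroup (sgnW B).ker, S.map (f i) ≤ Tw (i.1 + 1) := by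
      rintro S _ ⟨x, -, rfl⟩; exact (x.1 i).2
    have hnorm : ∀ S : Subgroup (sgnW B).ker, S.Normal → ∀ g ∈ Tw (i.1 + 1),
        ∀ a ∈ S.map (f i), g * a * g⁻¹ ∈ S.map (f i) := by
      rintro S hS g hg _ ⟨a, ha, rfl⟩
      obtain ⟨x, hx⟩ := lift i ⟨g, hg⟩
      refine ⟨x * a * x⁻¹, hS.conj_mem a ha x, ?_⟩
      rw [map_mul, map_mul, map_inv, show f i x = g from congrArg Subtype.val hx]
    rcases (good_Tw i.1).central_product (A.map (f i)) (C.map (f i)) (hle A) (hle C)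
      (hnorm A hAn) (hnorm C hCn) (by
        rintro _ ⟨a, ha, rfl⟩ _ ⟨b, hb, rfl⟩
        rw [← map_mul, ← map_mul, hc a ha b hb]) (by
        intro g hg
        obtain ⟨x, hx⟩ := lift i ⟨g, hg⟩
        obtain ⟨a, ha, b, hb, e⟩ := hgen x
        exact ⟨f i a, ⟨a, ha, rfl⟩, f i b, ⟨b, hb, rfl⟩, by
          rw [← map_mul, ← e]; exact (congrArg Subtype.val hx).symm⟩) with H | H
    · exact Or.inl fun a ha => H _ ⟨a, ha, rfl⟩
    · exact Or.inr fun a ha => H _ ⟨a, ha, rfl⟩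
  -- not all coordinates lie in one factor
  have all_bad : ∀ (A C : Subgroup (sgnW B).ker), C ≠ ⊥ → (∀ a ∈ A, ∀ b ∈ C, a * b = b * a) →
      A ⊓ C = ⊥ → A.Normal → (∀ g, ∃ a ∈ A, ∃ b ∈ C, g = a * b) →
      ¬ ∀ i : B, ∀ c ∈ C, ∀ y ∈ Tw (i.1 + 1), y * f i c = f i c * y := by
    intro A C hC hc hi hAn hgen hall
    have hcc : ∀ c ∈ C, ∀ g, g * c = c * g := by
      intro c hc' g
      refine Subtype.ext (funext fun i => Subtype.ext ?_)
      exact hall i c hc' _ (g.1 i).2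
    apply hC
    rw [eq_bot_iff]
    intro c hc'
    have hmem : c.1 ∈ A.map (sgnW B).ker.subtype := by
      refine Subgroup.pi_mem_of_mulSingle_mem c.1 fun i => ?_
      by_cases h1 : c.1 i = 1
      · rw [h1, Pi.mulSingle_one]; exact one_mem _
      obtain ⟨s, hs', hse, t, ht, e⟩ := (good_Tw i.1).center_commutator _ (c.1 i).2
        (fun y hy => hall i c hc' y hy) (fun e => h1 (Subtype.ext e))
      obtain ⟨x₂, hx₂⟩ := lift i ⟨t, ht⟩
      set x₁ : (sgnW B).ker := ⟨Pi.mulSingle i ⟨s, hs'⟩, by rw [MonoidHom.mem_ker, sgnW_mulSingle]; exact hse⟩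
      have hcomA : x₁ * x₂ * x₁⁻¹ * x₂⁻¹ ∈ A := by
        obtain ⟨a₁, ha₁, b₁, hb₁, e₁⟩ := hgen x₁
        obtain ⟨a₂, ha₂, b₂, hb₂, e₂⟩ := hgen x₂
        have e' : x₁ * x₂ * x₁⁻¹ * x₂⁻¹ = a₁ * a₂ * a₁⁻¹ * a₂⁻¹ := by
          rw [e₁, e₂]
          have c1 : ∀ g, Commute g b₁ := hcc b₁ hb₁
          have c2 : ∀ g, Commute g b₂ := hcc b₂ hb₂
          calc a₁ * b₁ * (a₂ * b₂) * (a₁ * b₁)⁻¹ * (a₂ * b₂)⁻¹
              = a₁ * (b₁ * a₂) * (b₂ * b₁⁻¹ * a₁⁻¹) * (b₂⁻¹ * a₂⁻¹) := by group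
            _ = a₁ * (a₂ * b₁) * (b₁⁻¹ * a₁⁻¹ * b₂) * (b₂⁻¹ * a₂⁻¹) := by
              rw [(c1 a₂).eq, (c2 (b₁⁻¹ * a₁⁻¹)).eq]; group
            _ = a₁ * a₂ * a₁⁻¹ * a₂⁻¹ := by group
        rw [e']
        exact A.mul_mem (A.mul_mem (A.mul_mem ha₁ ha₂) (A.inv_mem ha₁)) (A.inv_mem ha₂)
      refine ⟨_, hcomA, ?_⟩
      funext j
      by_cases hj : j = i
      · subst hj
        rw [Pi.mulSingle_eq_same]
        refine Subtype.ext ?_
        simp [x₁, hx₂, e]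
      · simp [x₁, Pi.mulSingle_eq_of_ne hj]
    obtain ⟨a, ha, e⟩ := hmem
    have : c ∈ A ⊓ C := Subgroup.mem_inf.2 ⟨Subtype.ext e ▸ ha, hc'⟩
    rwa [hi] at this
  obtain ⟨i, hiA⟩ := not_forall.1 (all_bad A C hC hc hi hAn hgen)
  obtain ⟨j, hjC⟩ := not_forall.1 (all_bad C A hA (fun b hb a ha => (hc a ha b hb).symm)
    (by rwa [inf_comm]) hCn (fun g => by
      obtain ⟨a, ha, b, hb, e⟩ := hgen g
      exact ⟨b, hb, a, ha, e.trans (hc a ha b hb)⟩))
  have hA' := (hcp i).resolve_right hiA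
  have hC' := (hcp j).resolve_left hjC
  have hij : i ≠ j := fun e => hiA (e ▸ hC')
  -- `i` is a coordinate of `C`, `j` one of `A`
  obtain ⟨a, ha, c, hc', e⟩ := hgen (⟨Pi.mulSingle i (o i) * Pi.mulSingle j (o j), by
    rw [MonoidHom.mem_ker, map_mul, sgnW_mulSingle, sgnW_mulSingle, ho, ho]
    exact Int.units_mul_self _⟩ : (sgnW B).ker)
  have hval : ∀ k, sign (a.1 k).1 * sign (c.1 k).1 =
      sign ((Pi.mulSingle i (o i) * Pi.mulSingle j (o j) : W B) k).1 := fun k => by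
    have := congrFun (congrArg Subtype.val e) k
    rw [← map_mul]
    exact congrArg sign (congrArg Subtype.val this).symm
  have hsign : ∀ k, sign (a.1 k).1 = if k = j then -1 else 1 := by
    intro k
    have hv := hval k
    rcases hcp k with H | H
    · have hk : k ≠ j := fun e' => hjC (e' ▸ H)
      rw [if_neg hk]
      exact (good_Tw k.1).center_even _ (a.1 k).2 (H a ha)
    · have hk : k ≠ i := fun e' => hiA (e' ▸ H)
      rw [(good_Tw k.1).center_even _ (c.1 k).2 (H c hc'), mul_one] at hv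
      rw [hv]
      by_cases hkj : k = j
      · subst hkj; simp [Pi.mulSingle_eq_of_ne hk, ho]
      · simp [Pi.mulSingle_eq_of_ne hk, Pi.mulSingle_eq_of_ne hkj, hkj]
  have h0 : sgnW B a.1 = 1 := a.2
  have h1 : sgnW B a.1 = -1 := by
    show ∏ k, sign (a.1 k).1 = -1
    simp only [hsign, Finset.prod_ite_eq', Finset.mem_univ, if_true]
  exact absurd (h0.symm.trans h1) (by decide)

end Cfsg.Agent.SylBlocks
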