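import Mathlib.GroupTheory.SpecificGroups.Alternating
import Mathlib.GroupTheory.Sylow
import Mathlib.GroupTheory.PGroup
import Mathlib.NumberTheory.Padics.PadicVal.Basic
import Mathlib.Data.Nat.BitIndices
import Mathlib.Algebra.Group.Subgroup.Finite
import Mathlib.Tactic

/-!
Iterated wreath products of the group of order two inside symmetric groups of degree `2^(k+1)`,
their centres, and the direct products of such blocks with their even parts.
-/

set_option autoImplicit false

namespace Cfsg.Agent.SylBlocks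

open Equiv Equiv.Perm

section Double

variable {X : Type*} [Fintype X] [DecidableEq X]

/-- The base element. -/
def bs (s t : Perm X) : Perm (X ⊕ X) := Equiv.sumCongr s t

/-- The swap of the two halves. -/
def sw (X : Type*) : Perm (X ⊕ X) := Equiv.sumComm X X

omit [Fintype X] [DecidableEq X] in
theorem bs_mul (s t s' t' : Perm X) : bs s t * bs s' t' = bs (s * s') (t * t') := by
  ext x; rcases x with x | x <;> rfl

omit [Fintype X] [DecidableEq X] in
theorem bs_one : bs (1 : Perm X) 1 = 1 := by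
  ext x; rcases x with x | x <;> rfl

omit [Fintype X] [DecidableEq X] in
theorem bs_inv (s t : Perm X) : (bs s t)⁻¹ = bs s⁻¹ t⁻¹ :=
  inv_eq_of_mul_eq_one_right (by rw [bs_mul, mul_inv_cancel, mul_inv_cancel, bs_one])

omit [Fintype X] [DecidableEq X] in
theorem sw_sq : sw X * sw X = 1 := by ext x; rcases x with x | x <;> rfl

omit [Fintype X] [DecidableEq X] in
theorem sw_bs (s t : Perm X) : sw X * bs s t = bs t s * sw X := by
  ext x; rcases x with x | x <;> rfl

omit [Fintype X] [DecidableEq X] in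
theorem bs_inj {s t s' t' : Perm X} (h : bs s t = bs s' t') : s = s' ∧ t = t' :=
  ⟨Equiv.ext fun x => by simpa [bs] using congrArg (fun e : Perm (X ⊕ X) => e (Sum.inl x)) h,
    Equiv.ext fun x => by simpa [bs] using congrArg (fun e : Perm (X ⊕ X) => e (Sum.inr x)) h⟩

omit [Fintype X] [DecidableEq X] in
theorem bs_ne_sw [Nonempty X] {s t s' t' : Perm X} : bs s t ≠ bs s' t' * sw X := by
  intro h
  obtain ⟨x⟩ := ‹Nonempty X›
  simpa [bs, sw] using congrArg (fun e : Perm (X ⊕ X) => e (Sum.inl x)) h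

theorem sign_bs (s t : Perm X) : sign (bs s t) = sign s * sign t := sign_sumCongr s t

theorem sign_sw (h : Even (Fintype.card X)) : sign (sw X) = 1 := by
  have e : sw X = (Equiv.boolProdEquivSum X).permCongr
      (prodCongrLeft fun _ : X => Equiv.swap false true) := by
    ext x; rcases x with x | x <;> simp [sw, Equiv.permCongr_apply, Equiv.boolProdEquivSum]
  rw [e, sign_permCongr, sign_prodCongrLeft]
  simp [h.neg_one_pow]

variable (T : Subgroup (Perm X))

/-- `T ≀ C₂`. -/
def double : Subgroup (Perm (X ⊕ X)) where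
  carrier := {g | ∃ s ∈ T, ∃ t ∈ T, g = bs s t ∨ g = bs s t * sw X}
  one_mem' := ⟨1, T.one_mem, 1, T.one_mem, Or.inl bs_one.symm⟩
  mul_mem' := by
    rintro g h ⟨s, hs, t, ht, hg⟩ ⟨s', hs', t', ht', hh⟩
    rcases hg with rfl | rfl <;> rcases hh with rfl | rfl
    · exact ⟨_, T.mul_mem hs hs', _, T.mul_mem ht ht', Or.inl (bs_mul _ _ _ _)⟩
    · exact ⟨_, T.mul_mem hs hs', _, T.mul_mem ht ht', Or.inr (by rw [← mul_assoc, bs_mul])⟩
    · exact ⟨_, T.mul_mem hs ht', _, T.mul_mem ht hs', Or.inr (by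
        rw [mul_assoc, sw_bs, ← mul_assoc, bs_mul])⟩
    · exact ⟨_, T.mul_mem hs ht', _, T.mul_mem ht hs', Or.inl (by
        rw [mul_assoc, ← mul_assoc (sw X), sw_bs, mul_assoc (bs t' s'), sw_sq, mul_one, bs_mul])⟩
  inv_mem' := by
    rintro g ⟨s, hs, t, ht, hg | hg⟩
    · exact ⟨_, T.inv_mem hs, _, T.inv_mem ht, Or.inl (by rw [hg, bs_inv])⟩
    · exact ⟨_, T.inv_mem ht, _, T.inv_mem hs, Or.inr (by
        rw [hg, mul_inv_rev, bs_inv, inv_eq_of_mul_eq_one_right sw_sq, sw_bs])⟩

theorem bs_mem {s t : Perm X} (hs : s ∈ T) (ht : t ∈ T) : bs s t ∈ double T :=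
  ⟨s, hs, t, ht, Or.inl rfl⟩

theorem sw_mem : sw X ∈ double T :=
  ⟨1, T.one_mem, 1, T.one_mem, Or.inr (by rw [bs_one, one_mul])⟩

theorem card_double [Nonempty X] : Nat.card (double T) = 2 * (Nat.card T * Nat.card T) := by
  let f : Bool × (T × T) → double T := fun p =>
    if p.1 then ⟨bs p.2.1.1 p.2.2.1 * sw X, (double T).mul_mem (bs_mem T p.2.1.2 p.2.2.2) (sw_mem T)⟩
    else ⟨bs p.2.1.1 p.2.2.1, bs_mem T p.2.1.2 p.2.2.2⟩
  have hb : Function.Bijective f := by
    constructor
    · rintro ⟨a, s, t⟩ ⟨b, s', t'⟩ h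
      have h' := congrArg Subtype.val h
      cases a <;> cases b <;> simp only [f, Bool.false_eq_true, if_false, if_true] at h'
      · obtain ⟨h1, h2⟩ := bs_inj h'; rw [Subtype.ext h1, Subtype.ext h2]
      · exact absurd h' bs_ne_sw
      · exact absurd h'.symm bs_ne_sw
      · obtain ⟨h1, h2⟩ := bs_inj (mul_right_cancel h'); rw [Subtype.ext h1, Subtype.ext h2]
    · rintro ⟨g, s, hs, t, ht, rfl | rfl⟩
      · exact ⟨(false, ⟨s, hs⟩, ⟨t, ht⟩), Subtype.ext rfl⟩
      · exact ⟨(true, ⟨s, hs⟩, ⟨t, ht⟩), Subtype.ext rfl⟩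
  rw [← Nat.card_congr (Equiv.ofBijective f hb)]
  simp [Nat.card_prod]

/-- The properties needed to iterate. -/
structure Pre : Prop where
  even_card : Even (Fintype.card X)
  nonempty : Nonempty X
  center : ∃ z ∈ T, z ≠ 1 ∧ ∀ x ∈ T, (∀ y ∈ T, y * x = x * y) ↔ x = 1 ∨ x = z
  exists_odd : ∃ t ∈ T, sign t = -1

/-- The properties of the blocks of degree at least four. -/
structure Good : Prop extends Pre T where
  center_even : ∀ z ∈ T, (∀ y ∈ T, y * z = z * y) → sign z = 1
  center_commutator : ∀ z ∈ T, (∀ y ∈ T, y * z = z * y) → z ≠ 1 →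
    ∃ s ∈ T, sign s = 1 ∧ ∃ t ∈ T, z = s * t * s⁻¹ * t⁻¹
  central_product : ∀ A B : Subgroup (Perm X), A ≤ T → B ≤ T →
    (∀ g ∈ T, ∀ a ∈ A, g * a * g⁻¹ ∈ A) → (∀ g ∈ T, ∀ b ∈ B, g * b * g⁻¹ ∈ B) →
    (∀ a ∈ A, ∀ b ∈ B, a * b = b * a) → (∀ g ∈ T, ∃ a ∈ A, ∃ b ∈ B, g = a * b) →
    (∀ a ∈ A, ∀ y ∈ T, y * a = a * y) ∨ (∀ b ∈ B, ∀ y ∈ T, y * b = b * y)

variable {T}

theorem center_double (hT : Pre T) :
    ∃ z ∈ T, z ≠ 1 ∧ z * z = 1 ∧ ∀ x ∈ double T,
      (∀ y ∈ double T, y * x = x * y) ↔ x = 1 ∨ x = bs z z := by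
  haveI := hT.nonempty
  obtain ⟨z, hz, hz1, hc⟩ := hT.center
  have hzc := (hc z hz).2 (Or.inr rfl)
  have hz2 : z * z = 1 := by
    rcases (hc (z * z) (T.mul_mem hz hz)).1 (fun y hy => by
      rw [← mul_assoc, hzc y hy, mul_assoc, hzc y hy, mul_assoc]) with h | h
    · exact h
    · exact absurd (mul_eq_left.1 h) hz1
  refine ⟨z, hz, hz1, hz2, fun x hx => ⟨fun hcomm => ?_, ?_⟩⟩
  · obtain ⟨s, hs, t, ht, rfl | rfl⟩ := hx
    · have h := hcomm _ (sw_mem T)
      rw [sw_bs] at h
      have hst : t = s := (bs_inj (mul_right_cancel h)).1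
      subst hst
      have hs' : ∀ y ∈ T, y * t = t * y := fun y hy => by
        have h := hcomm _ (bs_mem T hy T.one_mem)
        rw [bs_mul, bs_mul] at h
        exact (bs_inj h).1
      rcases (hc t hs).1 hs' with rfl | rfl
      exacts [Or.inl bs_one, Or.inr rfl]
    · exfalso
      obtain ⟨c, hcT, hc1⟩ : ∃ c ∈ T, c ≠ 1 := ⟨z, hz, hz1⟩
      have h := hcomm _ (bs_mem T hcT T.one_mem)
      rw [← mul_assoc, bs_mul, mul_assoc, sw_bs, ← mul_assoc, bs_mul] at h
      exact hc1 (mul_eq_left.1 ((bs_inj (mul_right_cancel h)).2.symm.trans (one_mul t)))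
  · rintro (rfl | rfl) <;> rintro y ⟨s, hs, t, ht, rfl | rfl⟩
    · simp
    · simp
    · rw [bs_mul, bs_mul, hzc s hs, hzc t ht]
    · rw [mul_assoc, sw_bs, ← mul_assoc, bs_mul, ← mul_assoc, bs_mul, hzc s hs, hzc t ht]

theorem good_double (hT : Pre T) : Good (double T) := by
  haveI := hT.nonempty
  obtain ⟨z, hz, hz1, hz2, hcd⟩ := center_double hT
  obtain ⟨t0, ht0, hodd⟩ := hT.exists_odd
  have hZc : ∀ y ∈ double T, y * bs z z = bs z z * y :=
    (hcd _ (bs_mem T hz hz)).2 (Or.inr rfl)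
  have noncomm : sw X * bs t0 1 ≠ bs t0 1 * sw X := by
    intro h
    rw [sw_bs] at h
    have := (bs_inj (mul_right_cancel h)).1
    rw [← this, map_one] at hodd
    exact absurd hodd (by decide)
  refine ⟨⟨?_, inferInstance, ⟨bs z z, bs_mem T hz hz, fun h => hz1 ?_, hcd⟩,
    ⟨bs t0 1, bs_mem T ht0 T.one_mem, by rw [sign_bs, hodd, map_one, mul_one]⟩⟩, ?_, ?_, ?_⟩
  · rw [Fintype.card_sum]; exact ⟨_, rfl⟩
  · rw [← bs_one] at h; exact (bs_inj h).1
  · intro w hw hwc
    rcases (hcd w hw).1 hwc with rfl | rfl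
    · exact map_one _
    · rw [sign_bs]; exact Int.units_mul_self _
  · intro w hw hwc hw1
    rcases (hcd w hw).1 hwc with rfl | rfl
    · exact absurd rfl hw1
    refine ⟨sw X, sw_mem T, sign_sw hT.even_card, bs z 1, bs_mem T hz T.one_mem, ?_⟩
    rw [sw_bs, inv_eq_of_mul_eq_one_right sw_sq, mul_assoc (bs 1 z), sw_sq, mul_one, bs_inv, bs_mul,
      one_mul, inv_one, mul_one, inv_eq_of_mul_eq_one_right hz2]
  · intro A B hA hB hAn hBn hcomm hgen
    have small : ∀ (A B : Subgroup (Perm (X ⊕ X))), A ≤ double T → B ≤ double T →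
        (∀ g ∈ double T, ∀ b ∈ B, g * b * g⁻¹ ∈ B) → (∀ a ∈ A, ∀ b ∈ B, a * b = b * a) →
        (∃ a ∈ A, ∃ s t : Perm X, a = bs s t * sw X) →
        ∀ b ∈ B, (∃ s ∈ T, ∃ t ∈ T, b = bs s t) → b = 1 ∨ b = bs z z := by
      rintro A B hA hB hBn hcomm ⟨_, ha, s, t, rfl⟩ b hb ⟨u, hu, v, hv, rfl⟩
      have key : ∀ u v, bs u v ∈ B → v = s⁻¹ * u * s := fun u v hb => by
        have h := hcomm _ ha _ hb
        rw [mul_assoc, sw_bs, ← mul_assoc, bs_mul, ← mul_assoc, bs_mul] at h
        calc v = s⁻¹ * (s * v) := by group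
          _ = s⁻¹ * u * s := by rw [(bs_inj (mul_right_cancel h)).1, mul_assoc]
      have huc : ∀ c ∈ T, c * u = u * c := fun c hc => by
        have h := hBn _ (bs_mem T hc T.one_mem) _ hb
        rw [bs_inv, bs_mul, bs_mul, one_mul, inv_one, mul_one] at h
        have e := (key _ _ hb).symm.trans (key _ _ h)
        exact mul_inv_eq_iff_eq_mul.1 (mul_left_cancel (mul_right_cancel e)).symm
      refine (hcd _ (bs_mem T hu hv)).1 ?_
      have hvu : v = u := by
        have hsT : s ∈ T := by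
          obtain ⟨s', hs', t', -, h | h⟩ := hA ha
          · exact absurd h.symm bs_ne_sw
          · exact (bs_inj (mul_right_cancel h)).1 ▸ hs'
        rw [key _ _ hb, mul_assoc, ← huc s hsT, inv_mul_cancel_left]
      subst hvu
      rintro _ ⟨s', hs', t', ht', rfl | rfl⟩
      · rw [bs_mul, bs_mul, huc s' hs', huc t' ht']
      · rw [mul_assoc, sw_bs, ← mul_assoc, bs_mul, ← mul_assoc, bs_mul, huc s' hs', huc t' ht']
    have central : ∀ b, b = 1 ∨ b = bs z z → ∀ y ∈ double T, y * b = b * y := by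
      rintro b (rfl | rfl) y hy
      exacts [by simp, hZc y hy]
    by_cases hAout : ∃ a ∈ A, ∃ s t : Perm X, a = bs s t * sw X
    · by_cases hBout : ∃ b ∈ B, ∃ s t : Perm X, b = bs s t * sw X
      · exfalso
        have SB := small A B hA hB hBn hcomm hAout
        have SA := small B A hB hA hAn (fun b hb a ha => (hcomm a ha b hb).symm) hBout
        have abel : ∀ (A : Subgroup (Perm (X ⊕ X))), A ≤ double T →
            (∀ a ∈ A, (∃ s ∈ T, ∃ t ∈ T, a = bs s t) → a = 1 ∨ a = bs z z) →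
            ∀ a ∈ A, ∀ a' ∈ A, a * a' = a' * a := by
          intro A hA S a ha a' ha'
          obtain ⟨s, hs, t, ht, e | e⟩ := hA ha
          · exact (central a (S a ha ⟨s, hs, t, ht, e⟩) a' (hA ha')).symm
          obtain ⟨s', hs', t', ht', e' | e'⟩ := hA ha'
          · exact central a' (S a' ha' ⟨s', hs', t', ht', e'⟩) a (hA ha)
          have e2 : a * a'⁻¹ = bs (s * s'⁻¹) (t * t'⁻¹) := by
            rw [e, e', mul_inv_rev, mul_assoc, ← mul_assoc (sw X), mul_inv_cancel, one_mul, bs_inv,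
              bs_mul]
          have h3 := central _ (S _ (A.mul_mem ha (A.inv_mem ha'))
            ⟨_, T.mul_mem hs (T.inv_mem hs'), _, T.mul_mem ht (T.inv_mem ht'), e2⟩) a' (hA ha')
          calc a * a' = a * a'⁻¹ * a' * a' := by group
            _ = a' * (a * a'⁻¹) * a' := by rw [h3]
            _ = a' * a := by group
        apply noncomm
        obtain ⟨a, ha, b, hb, e⟩ := hgen _ (sw_mem T)
        obtain ⟨a', ha', b', hb', e'⟩ := hgen _ (bs_mem T ht0 T.one_mem)
        rw [e, e']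
        calc a * b * (a' * b') = a * (b * a') * b' := by group
          _ = (a * a') * (b * b') := by rw [← hcomm a' ha' b hb]; group
          _ = (a' * a) * (b' * b) := by rw [abel A hA SA a ha a' ha', abel B hB SB b hb b' hb']
          _ = a' * (a * b') * b := by group
          _ = a' * b' * (a * b) := by rw [hcomm a ha b' hb']; group
      · right
        intro b hb
        obtain ⟨s, hs, t, ht, e | e⟩ := hB hb
        · exact central b (small A B hA hB hBn hcomm hAout b hb ⟨s, hs, t, ht, e⟩)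
        · exact absurd ⟨b, hb, s, t, e⟩ hBout
    · left
      intro a ha
      have hBout : ∃ b ∈ B, ∃ s t : Perm X, b = bs s t * sw X := by
        by_contra hBout
        obtain ⟨a, ha, b, hb, e⟩ := hgen _ (sw_mem T)
        obtain ⟨s, -, t, -, ea | ea⟩ := hA ha
        · obtain ⟨s', -, t', -, eb | eb⟩ := hB hb
          · rw [ea, eb, bs_mul] at e
            exact bs_ne_sw (s' := 1) (t' := 1) (e.symm.trans (by rw [bs_one, one_mul]))
          · exact hBout ⟨b, hb, s', t', eb⟩
        · exact hAout ⟨a, ha, s, t, ea⟩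
      obtain ⟨s, hs, t, ht, e | e⟩ := hA ha
      · exact central a (small B A hB hA hAn (fun b hb a ha => (hcomm a ha b hb).symm) hBout a ha
          ⟨s, hs, t, ht, e⟩)
      · exact absurd ⟨a, ha, s, t, e⟩ hAout

/-- In degree at least eight only the centre commutes with all even elements. -/
theorem even_center_double (hT : Good T) {x : Perm (X ⊕ X)} (hx : x ∈ double T)
    (h : ∀ y ∈ double T, sign y = 1 → y * x = x * y) :
    ∀ y ∈ double T, y * x = x * y := by
  haveI := hT.nonempty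
  obtain ⟨z, hz, hz1, hc⟩ := hT.center
  have hzc := (hc z hz).2 (Or.inr rfl)
  obtain ⟨t0, ht0, hodd⟩ := hT.exists_odd
  have he := hT.center_even z hz hzc
  obtain ⟨s, hs, t, ht, rfl | rfl⟩ := hx
  · have hsw := h _ (sw_mem T) (sign_sw hT.even_card)
    rw [sw_bs] at hsw
    have hst : t = s := (bs_inj (mul_right_cancel hsw)).1
    subst hst
    have hct : ∀ y ∈ T, y * t = t * y := by
      intro y hy
      rcases Int.units_eq_one_or (sign y) with e | e
      · have h' := h _ (bs_mem T hy T.one_mem) (by rw [sign_bs, e, map_one, mul_one])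
        rw [bs_mul, bs_mul] at h'
        exact (bs_inj h').1
      · have h' := h _ (bs_mem T hy ht0) (by rw [sign_bs, e, hodd]; exact Int.units_mul_self _)
        rw [bs_mul, bs_mul] at h'
        exact (bs_inj h').1
    rintro _ ⟨s', hs', t', ht', rfl | rfl⟩
    · rw [bs_mul, bs_mul, hct s' hs', hct t' ht']
    · rw [mul_assoc, sw_bs, ← mul_assoc, bs_mul, ← mul_assoc, bs_mul, hct s' hs', hct t' ht']
  · exfalso
    have h' := h _ (bs_mem T hz T.one_mem) (by rw [sign_bs, he, map_one, mul_one])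
    rw [← mul_assoc, bs_mul, mul_assoc, sw_bs, ← mul_assoc, bs_mul] at h'
    exact hz1 (mul_eq_left.1 ((bs_inj (mul_right_cancel h')).2.symm.trans (one_mul t)))

end Double

/-- `2^(k+1)` points. -/
@[reducible] def Pts : ℕ → Type
  | 0 => Fin 2
  | k + 1 => Pts k ⊕ Pts k

instance instFintypePts : ∀ k, Fintype (Pts k)
  | 0 => inferInstanceAs (Fintype (Fin 2))
  | k + 1 => by haveI := instFintypePts k; exact inferInstanceAs (Fintype (Pts k ⊕ Pts k))

instance instDecEqPts : ∀ k, DecidableEq (Pts k)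
  | 0 => inferInstanceAs (DecidableEq (Fin 2))
  | k + 1 => by haveI := instDecEqPts k; exact inferInstanceAs (DecidableEq (Pts k ⊕ Pts k))

/-- The iterated wreath product. -/
def Tw : (k : ℕ) → Subgroup (Perm (Pts k))
  | 0 => ⊤
  | k + 1 => double (Tw k)

theorem card_pts (k : ℕ) : Fintype.card (Pts k) = 2 ^ (k + 1) := by
  induction k with
  | zero => rfl
  | succ k ih =>
    rw [← Nat.card_eq_fintype_card] at ih ⊢
    show Nat.card (Pts k ⊕ Pts k) = _
    rw [Nat.card_sum, ih]; ring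

theorem pre_Tw : ∀ k, Pre (Tw k)
  | 0 => ⟨by decide, ⟨(0 : Fin 2)⟩, ⟨Equiv.swap (0 : Fin 2) 1, Subgroup.mem_top _, by decide,
      fun x _ => ⟨fun _ => (by decide : ∀ p : Perm (Fin 2), p = 1 ∨ p = Equiv.swap 0 1) x,
        fun _ y _ => (by decide : ∀ p q : Perm (Fin 2), p * q = q * p) y x⟩⟩,
      ⟨Equiv.swap (0 : Fin 2) 1, Subgroup.mem_top _, by decide⟩⟩
  | k + 1 => (good_double (pre_Tw k)).toPre

theorem good_Tw (k : ℕ) : Good (Tw (k + 1)) := good_double (pre_Tw k)

theorem card_Tw (k : ℕ) : Nat.card (Tw k) = 2 ^ (2 ^ (k + 1) - 1) := by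
  induction k with
  | zero =>
    show Nat.card (⊤ : Subgroup (Perm (Fin 2))) = _
    rw [Subgroup.card_top, Nat.card_perm, Nat.card_fin]
    rfl
  | succ k ih =>
    haveI := (pre_Tw k).nonempty
    show Nat.card (double (Tw k)) = _
    rw [card_double, ih, ← pow_add, ← pow_succ']
    congr 1
    have := Nat.one_le_two_pow (n := k + 1)
    rw [pow_succ 2 (k + 1)]
    omega

theorem padicValNat_factorial_add_length (m : ℕ) :
    padicValNat 2 m.factorial + m.bitIndices.length = m := by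
  induction m using Nat.strong_induction_on with
  | _ m ih =>
    rcases Nat.eq_zero_or_pos m with rfl | hm
    · simp
    have := ih (m / 2) (by omega)
    rcases Nat.mod_two_eq_zero_or_one m with h | h
    · obtain ⟨j, rfl⟩ : ∃ j, m = 2 * j := ⟨m / 2, by omega⟩
      rw [Nat.mul_div_cancel_left _ two_pos] at this
      rw [padicValNat_factorial_mul, Nat.bitIndices_two_mul, List.length_map]
      omega
    · obtain ⟨j, rfl⟩ : ∃ j, m = 2 * j + 1 := ⟨m / 2, by omega⟩
      rw [show (2 * j + 1) / 2 = j by omega] at this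
      rw [padicValNat_factorial_mul_add (p := 2) j (n := 1) one_lt_two, padicValNat_factorial_mul,
        Nat.bitIndices_two_mul_add_one, List.length_cons, List.length_map]
      omega

end Cfsg.Agent.SylBlocks
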